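import Groth.Agent.Lib.Devissage.Closure
import Mathlib.Topology.KrullDimension

/-!
# Dévissage by dimension of the support
-/

set_option autoImplicit false
universe u

open CategoryTheory Limits AlgebraicGeometry Opposite TopologicalSpace

namespace Groth.Agent.Lib.Devissage.Dim

noncomputable section

variable {X : Scheme.{u}}

lemma dim_mono {S T : Set X} (h : S ⊆ T) : topologicalKrullDim S ≤ topologicalKrullDim T :=
  (Topology.IsInducing.of_comp (continuous_inclusion h) continuous_subtype_val
    Topology.IsInducing.subtypeVal : Topology.IsInducing (Set.inclusion h)).topologicalKrullDim_le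

lemma dim_closure_le {T : Set X} (hT : IsClosed T) {y : X} (hy : y ∈ T) :
    topologicalKrullDim (closure {y} : Set X) ≤ topologicalKrullDim T :=
  dim_mono (Basic.closure_subset_of_mem hT hy)

/-- A point whose closure has the maximal possible dimension is maximal. -/
lemma eq_of_specializes {n : ℕ} {x z : X} (hzx : z ⤳ x)
    (hx : topologicalKrullDim (closure {x} : Set X) = n)
    (hz : topologicalKrullDim (closure {z} : Set X) ≤ n) : z = x := by
  by_contra hne
  have hzn : z ∉ closure ({x} : Set X) := fun h =>
    hne ((hzx.antisymm (specializes_iff_mem_closure.mpr h)).eq)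
  have hsub : closure ({x} : Set X) ⊆ closure {z} :=
    Basic.closure_subset_of_mem isClosed_closure (specializes_iff_mem_closure.mp hzx)
  obtain ⟨l, hl⟩ := Order.le_krullDim_iff.mp (le_of_eq hx.symm)
  let ι : (closure {x} : Set X) → (closure {z} : Set X) := Set.inclusion hsub
  have hι : Topology.IsInducing ι :=
    Topology.IsInducing.of_comp (continuous_inclusion hsub) continuous_subtype_val
      Topology.IsInducing.subtypeVal
  let l' := l.map (IrreducibleCloseds.map ι hι.continuous)
    (IrreducibleCloseds.map_strictMono_of_isInducing hι)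
  haveI : IrreducibleSpace (closure {z} : Set X) :=
    Subtype.irreducibleSpace isIrreducible_singleton.closure
  let top : IrreducibleCloseds (closure {z} : Set X) :=
    ⟨Set.univ, IrreducibleSpace.isIrreducible_univ _, isClosed_univ⟩
  have hlt : RelSeries.last l' < top := by
    refine lt_of_le_of_ne (fun a _ => trivial) fun e => ?_
    have hmem : (⟨z, subset_closure rfl⟩ : (closure {z} : Set X)) ∈ ((RelSeries.last l' : IrreducibleCloseds (closure {z} : Set X)) : Set (closure {z} : Set X)) := by
      rw [e]; trivial
    have hc : ((RelSeries.last l' : IrreducibleCloseds (closure {z} : Set X)) : Set (closure {z} : Set X)) ⊆ Subtype.val ⁻¹' closure ({x} : Set X) := by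
      refine closure_minimal ?_ (isClosed_closure.preimage continuous_subtype_val)
      rintro _ ⟨a, -, rfl⟩
      exact a.2
    exact hzn (hc hmem)
  have := Order.LTSeries.length_le_krullDim (l'.snoc top hlt)
  rw [RelSeries.snoc_length] at this
  have h2 : ((l.length + 1 : ℕ) : WithBot ℕ∞) ≤ n := this.trans hz
  rw [hl] at h2
  norm_cast at h2
  omega

lemma finite_maximal [IsNoetherian X] {T : Set X} (hT : IsClosed T) :
    {x : X | x ∈ T ∧ ∀ z ∈ T, z ⤳ x → z = x}.Finite := by
  classical
  obtain ⟨S, hS, hirr, heq⟩ := NoetherianSpace.exists_finite_set_closeds_irreducible (⟨T, hT⟩ : Closeds X)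
  let g : S → X := fun Z => (hirr Z.1 Z.2).genericPoint
  haveI := hS.to_subtype
  refine (Set.finite_range g).subset fun x hx => ?_
  have hU : T = ⋃₀ (SetLike.coe '' S) := by
    have h1 : (sSup S : Closeds X) = hS.toFinset.sup id := by
      rw [Finset.sup_id_eq_sSup, Set.Finite.coe_toFinset]
    calc T = ((sSup S : Closeds X) : Set X) := congrArg SetLike.coe heq
      _ = _ := by rw [h1, Closeds.coe_finset_sup, Finset.sup_set_eq_biUnion]; simp [Set.sUnion_image]
  obtain ⟨_, ⟨Z, hZ, rfl⟩, hxZ⟩ := hU.subset hx.1
  have hg := (hirr Z hZ).isGenericPoint_genericPoint Z.isClosed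
  refine ⟨⟨Z, hZ⟩, hx.2 _ (hU.superset ⟨Z, ⟨Z, hZ, rfl⟩, hg.mem⟩) (hg.specializes hxZ)⟩

end

end Groth.Agent.Lib.Devissage.Dim
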