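import Groth.Agent.Lib.Devissage.Sky
import Groth.Agent.Lib.KRes.KSub
import Groth.Agent.Lib.CohBasics.Closure
import Groth.Agent.Lib.Modules.Support
import Groth.Agent.Lib.Cyc.SheafLen
import Mathlib.RingTheory.Length
import Mathlib.RingTheory.SimpleModule.Basic
import Mathlib.Topology.NoetherianSpace
import Mathlib.Topology.Sober

/-!
# Dévissage of coherent modules in `K₀`

`exists_reduction`: if `F` is coherent with `length F_y = 1` and `G` is coherent with nonzero
finite-length stalk at `y`, then `[G] - [F]` is the class of a module of smaller length at `y`,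
up to classes of modules vanishing at `y`.  `generation`: generators of `K₀` of coherent modules
supported in a closed subset.
-/

set_option autoImplicit false
set_option linter.style.haveILetI false
universe u

open CategoryTheory Limits AlgebraicGeometry Opposite TopologicalSpace

namespace Groth.Agent.Lib.Devissage.Basic

open Modules.StalkModule

noncomputable section

variable {X : Scheme.{u}}

/-- Coherent with support in `T`. -/
def CohIn (T : Set X) (G : X.Modules) : Prop := Coh.IsCoh G ∧ CohB1.support G ⊆ T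

lemma exists_surjective_of_length {R M N : Type u} [CommRing R] [IsLocalRing R] [AddCommGroup M]
    [Module R M] [AddCommGroup N] [Module R N] (hM : Module.length R M ≠ ⊤) [Nontrivial M]
    (hN : Module.length R N = 1) :
    ∃ φ : M →ₗ[R] N, Function.Surjective φ ∧ ∀ a : R, ¬ IsUnit a → ∀ l : N, a • l = 0 := by
  haveI : IsFiniteLength R M := Module.length_ne_top_iff.mp hM
  obtain ⟨hnoeth, -⟩ := isFiniteLength_iff_isNoetherian_isArtinian.mp this
  haveI : IsSimpleModule R N := Module.length_eq_one_iff.mp hN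
  obtain ⟨P, hP, -⟩ := (eq_top_or_exists_le_coatom (⊥ : Submodule R M)).resolve_left bot_ne_top
  haveI : IsSimpleModule R (M ⧸ P) := isSimpleModule_iff_isCoatom.mpr hP
  obtain ⟨I, hI, ⟨e⟩⟩ := isSimpleModule_iff_quot_maximal.mp (inferInstance : IsSimpleModule R N)
  obtain ⟨J, hJ, ⟨e'⟩⟩ :=
    isSimpleModule_iff_quot_maximal.mp (inferInstance : IsSimpleModule R (M ⧸ P))
  obtain rfl : J = I := (IsLocalRing.eq_maximalIdeal hJ).trans (IsLocalRing.eq_maximalIdeal hI).symm
  refine ⟨(e.symm.toLinearMap ∘ₗ e'.toLinearMap) ∘ₗ P.mkQ, ?_, fun a ha l => ?_⟩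
  · exact (e.symm.surjective.comp e'.surjective).comp P.mkQ_surjective
  · apply e.injective
    rw [map_smul, map_zero]
    obtain ⟨r, hr⟩ := Ideal.Quotient.mk_surjective (e l)
    rw [← hr, Algebra.smul_def, Ideal.Quotient.algebraMap_eq, ← map_mul,
      Ideal.Quotient.eq_zero_iff_mem]
    exact J.mul_mem_right _ (IsLocalRing.eq_maximalIdeal hJ ▸ ha)

lemma exists_ses_mono {A B : X.Modules} (f : A ⟶ B) [Mono f] :
    (ShortComplex.mk f (cokernel.π f) (cokernel.condition f)).ShortExact :=
  ShortComplex.ShortExact.mk' (ShortComplex.exact_cokernel f) inferInstance inferInstance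

lemma exists_ses_epi {A B : X.Modules} (f : A ⟶ B) [Epi f] :
    (ShortComplex.mk (kernel.ι f) f (kernel.condition f)).ShortExact :=
  ShortComplex.ShortExact.mk' (ShortComplex.exact_kernel f) inferInstance inferInstance

/-- The reduction step of dévissage. -/
theorem exists_reduction [IsLocallyNoetherian X] {T : Set X} (P : ObjectProperty X.Modules)
    (hP : ∀ G, CohIn T G → P G) {y : X} {F G : X.Modules} (hF : CohIn T F)
    (hFy : Module.length (X.presheaf.stalk y) (F.presheaf.stalk y) = 1) (hG : CohIn T G)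
    (hGy : Module.length (X.presheaf.stalk y) (G.presheaf.stalk y) ≠ ⊤)
    [Nontrivial (G.presheaf.stalk y)] :
    ∃ (K : X.Modules), CohIn T K ∧
      Module.length (X.presheaf.stalk y) (K.presheaf.stalk y) + 1 =
        Module.length (X.presheaf.stalk y) (G.presheaf.stalk y) ∧
      KZero.clSub P G - KZero.clSub P K - KZero.clSub P F ∈
        AddSubgroup.closure {c | ∃ D, CohIn T D ∧ y ∉ CohB1.support D ∧ c = KZero.clSub P D} := by
  obtain ⟨φ, hφ, hnil⟩ := exists_surjective_of_length hGy hFy
  set S := Sky.sky y (F.presheaf.stalk y)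
  haveI hS : S.IsQuasicoherent :=
    Sky.isQCoh_sky y _ fun a ha l => ⟨1, by rw [pow_one]; exact hnil a ha l⟩
  let a : G ⟶ S := Sky.toSky φ
  let b : F ⟶ S := Sky.toSky LinearMap.id
  have ha : Function.Surjective (stalkMapₗ a y) := fun z => by
    obtain ⟨l, rfl⟩ := (Sky.stalkEquiv y (F.presheaf.stalk y)).surjective z
    obtain ⟨g, rfl⟩ := hφ l
    exact ⟨g, Sky.stalkMapₗ_toSky φ g⟩
  have hb : Function.Bijective (stalkMapₗ b y) := by
    have : ⇑(stalkMapₗ b y) = Sky.stalkEquiv y (F.presheaf.stalk y) :=
      funext fun z => Sky.stalkMapₗ_toSky _ z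
    exact this ▸ (Sky.stalkEquiv y _).bijective
  let ψ : G ⊞ F ⟶ S := biprod.desc a b
  let M := cokernel (kernel.ι ψ)
  let π : G ⊞ F ⟶ M := cokernel.π (kernel.ι ψ)
  let m : M ⟶ S := cokernel.desc (kernel.ι ψ) ψ (kernel.condition ψ)
  haveI : Mono m := inferInstanceAs (Mono (Abelian.factorThruCoimage ψ))
  let α : G ⟶ M := biprod.inl ≫ π
  let β : F ⟶ M := biprod.inr ≫ π
  have hα : α ≫ m = a := by simp [α, π, m, ψ]
  have hβ : β ≫ m = b := by simp [β, π, m, ψ]
  have hm : Function.Injective (stalkMapₗ m y) := (mono_iff_stalkMapₗ_injective m).mp inferInstance y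
  have hmb (v) : stalkMapₗ m y (stalkMapₗ β y v) = stalkMapₗ b y v := by
    show stalkMapₗ m y (stalkMapₗ β y v) = stalkMapₗ b y v
    rw [← LinearMap.comp_apply, ← stalkMapₗ_comp, hβ]
  have hma (v) : stalkMapₗ m y (stalkMapₗ α y v) = stalkMapₗ a y v := by
    show stalkMapₗ m y (stalkMapₗ α y v) = stalkMapₗ a y v
    rw [← LinearMap.comp_apply, ← stalkMapₗ_comp, hα]
  have hβy : Function.Bijective (stalkMapₗ β y) := by
    refine ⟨fun v w h => hb.1 (by rw [← hmb, ← hmb, h]), fun z => ?_⟩
    obtain ⟨v, hv⟩ := hb.2 (stalkMapₗ m y z)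
    exact ⟨v, hm ((hmb v).trans hv)⟩
  have hαy : Function.Surjective (stalkMapₗ α y) := fun z => by
    obtain ⟨v, hv⟩ := ha (stalkMapₗ m y z)
    exact ⟨v, hm ((hma v).trans hv)⟩
  -- coherence and supports
  haveI := hG.1.1
  haveI := hF.1.1
  have hGF : Coh.IsCoh (G ⊞ F) := CohBasics.Closure.isCoh_biprod hG.1 hF.1
  have hkψ : Coh.IsQCoh (kernel ψ) := by
    haveI := hGF.1
    exact QCoh.Closure.isQCoh_kernel ψ
  have hM : CohIn T M := by
    refine ⟨CohBasics.Closure.isCoh_cokernel _ hkψ hGF, ?_⟩
    refine (Modules.Support.support_subset_of_epi π).trans ?_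
    rw [Modules.Support.support_eq_union_of_shortExact
      (ShortComplex.Splitting.ofHasBinaryBiproduct G F).shortExact]
    exact Set.union_subset hG.2 hF.2
  haveI := hM.1.1
  have sub {A B : X.Modules} (f : A ⟶ B) [Mono f] (hB : CohIn T B) (hA : Coh.IsCoh A) : CohIn T A :=
    ⟨hA, (Modules.Support.support_subset_of_mono f).trans hB.2⟩
  have quo {A B : X.Modules} (f : A ⟶ B) [Epi f] (hA : CohIn T A) (hB : Coh.IsCoh B) : CohIn T B :=
    ⟨hB, (Modules.Support.support_subset_of_epi f).trans hA.2⟩
  have hK : CohIn T (kernel α) := sub (kernel.ι α) hG (CohBasics.Closure.isCoh_kernel α hG.1 hM.1.1)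
  have hD₁ : CohIn T (kernel β) := sub (kernel.ι β) hF (CohBasics.Closure.isCoh_kernel β hF.1 hM.1.1)
  have hC₃ : CohIn T (cokernel α) :=
    quo (cokernel.π α) hM (CohBasics.Closure.isCoh_cokernel α hG.1.1 hM.1)
  have hC₂ : CohIn T (cokernel β) :=
    quo (cokernel.π β) hM (CohBasics.Closure.isCoh_cokernel β hF.1.1 hM.1)
  have hI (A : X.Modules) (f : A ⟶ M) (hA : CohIn T A) : CohIn T (Abelian.image f) :=
    sub (Abelian.image.ι f) hM (CohBasics.Closure.isCoh_image f hA.1.1 hM.1)
  -- short exact sequences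
  have s₁ := exists_ses_epi (Abelian.factorThruImage α)
  have s₂ := exists_ses_mono (Abelian.image.ι α)
  have s₃ := exists_ses_epi (Abelian.factorThruImage β)
  have s₄ := exists_ses_mono (Abelian.image.ι β)
  let kα : kernel (Abelian.factorThruImage α) ≅ kernel α :=
    (kernelCompMono (Abelian.factorThruImage α) (Abelian.image.ι α)).symm ≪≫
      kernelIsoOfEq (Abelian.image.fac α)
  let kβ : kernel (Abelian.factorThruImage β) ≅ kernel β :=
    (kernelCompMono (Abelian.factorThruImage β) (Abelian.image.ι β)).symm ≪≫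
      kernelIsoOfEq (Abelian.image.fac β)
  let cα : cokernel (Abelian.image.ι α) ≅ cokernel α :=
    (cokernelEpiComp (Abelian.factorThruImage α) (Abelian.image.ι α)).symm ≪≫
      cokernelIsoOfEq (Abelian.image.fac α)
  let cβ : cokernel (Abelian.image.ι β) ≅ cokernel β :=
    (cokernelEpiComp (Abelian.factorThruImage β) (Abelian.image.ι β)).symm ≪≫
      cokernelIsoOfEq (Abelian.image.fac β)
  have coh_iso {A B : X.Modules} (e : A ≅ B) (hA : CohIn T A) : CohIn T B :=
    ⟨CohBasics.Closure.isCoh_of_iso e hA.1, Modules.Support.support_congr e ▸ hA.2⟩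
  have hkα := coh_iso kα.symm hK
  have hkβ := coh_iso kβ.symm hD₁
  have hcα := coh_iso cα.symm hC₃
  have hcβ := coh_iso cβ.symm hC₂
  have nd₁ : y ∉ CohB1.support (kernel (Abelian.factorThruImage β)) := by
    rw [Modules.Support.support_congr kβ, Modules.Support.not_mem_support_iff]
    refine subsingleton_of_forall_eq 0 fun v => ?_
    apply (mono_iff_stalkMapₗ_injective (kernel.ι β)).mp inferInstance y
    apply hβy.1
    rw [← LinearMap.comp_apply, ← stalkMapₗ_comp, kernel.condition, stalkMapₗ_zero, map_zero,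
      map_zero]
    rfl
  have coker_zero {A : X.Modules} (f : A ⟶ M) (hf : Function.Surjective (stalkMapₗ f y)) :
      y ∉ CohB1.support (cokernel f) := by
    rw [Modules.Support.not_mem_support_iff]
    refine subsingleton_of_forall_eq 0 fun v => ?_
    obtain ⟨w, rfl⟩ := (epi_iff_stalkMapₗ_surjective (cokernel.π f)).mp inferInstance y v
    obtain ⟨w, rfl⟩ := hf w
    rw [← LinearMap.comp_apply, ← stalkMapₗ_comp, cokernel.condition, stalkMapₗ_zero]
    rfl
  have nd₂ : y ∉ CohB1.support (cokernel (Abelian.image.ι β)) := by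
    rw [Modules.Support.support_congr cβ]; exact coker_zero β hβy.2
  have nd₃ : y ∉ CohB1.support (cokernel (Abelian.image.ι α)) := by
    rw [Modules.Support.support_congr cα]; exact coker_zero α hαy
  have len0 {D : X.Modules} (h : y ∉ CohB1.support D) :
      Module.length (X.presheaf.stalk y) (D.presheaf.stalk y) = 0 :=
    Module.length_eq_zero_iff.mpr (Modules.Support.not_mem_support_iff.mp h)
  refine ⟨kernel (Abelian.factorThruImage α), hkα, ?_, ?_⟩
  · have e₁ := Cyc.SheafLen.length_additive _ s₁ y
    have e₂ := Cyc.SheafLen.length_additive _ s₂ y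
    have e₃ := Cyc.SheafLen.length_additive _ s₃ y
    have e₄ := Cyc.SheafLen.length_additive _ s₄ y
    dsimp only at e₁ e₂ e₃ e₄
    rw [hFy, len0 nd₁, zero_add] at e₃
    rw [len0 nd₂, add_zero, ← e₃] at e₄
    rw [len0 nd₃, add_zero, e₄] at e₂
    rw [e₁, ← e₂]
  · have r₁ := KRes.KSub.rel (P := P) s₁ (hP _ hkα) (hP _ hG) (hP _ (hI _ α hG))
    have r₂ := KRes.KSub.rel (P := P) s₂ (hP _ (hI _ α hG)) (hP _ hM) (hP _ hcα)
    have r₃ := KRes.KSub.rel (P := P) s₃ (hP _ hkβ) (hP _ hF) (hP _ (hI _ β hF))
    have r₄ := KRes.KSub.rel (P := P) s₄ (hP _ (hI _ β hF)) (hP _ hM) (hP _ hcβ)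
    dsimp only at r₁ r₂ r₃ r₄
    have key : KZero.clSub P G - KZero.clSub P (kernel (Abelian.factorThruImage α)) -
        KZero.clSub P F = KZero.clSub P (cokernel (Abelian.image.ι β)) -
          KZero.clSub P (kernel (Abelian.factorThruImage β)) -
          KZero.clSub P (cokernel (Abelian.image.ι α)) := by
      rw [r₁, r₃, show KZero.clSub P (Abelian.image α) =
        KZero.clSub P (Abelian.image β) + KZero.clSub P (cokernel (Abelian.image.ι β)) -
          KZero.clSub P (cokernel (Abelian.image.ι α)) from eq_sub_of_add_eq (r₂.symm.trans r₄)]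
      abel
    rw [key]
    refine sub_mem (sub_mem ?_ ?_) ?_ <;> refine AddSubgroup.subset_closure ?_
    exacts [⟨_, hcβ, nd₂, rfl⟩, ⟨_, hkβ, nd₁, rfl⟩, ⟨_, hcα, nd₃, rfl⟩]

/-- A closed subset of a scheme has, if nonempty, a point which is maximal in it. -/
lemma exists_maximal_point {T : Set X} (hT : IsClosed T) (hne : T.Nonempty) :
    ∃ y ∈ T, ∀ z ∈ T, z ⤳ y → z = y := by
  haveI : Nonempty T := hne.to_subtype
  haveI : QuasiSober T := hT.isClosedEmbedding_subtypeVal.quasiSober
  let C := irreducibleComponent (Classical.arbitrary T)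
  have hC : IsIrreducible C := isIrreducible_irreducibleComponent
  refine ⟨hC.genericPoint.1, hC.genericPoint.2, fun z hz hzy => ?_⟩
  have hg := hC.isGenericPoint_genericPoint isClosed_irreducibleComponent
  have hzy' : (⟨z, hz⟩ : T) ⤳ hC.genericPoint := (subtype_specializes_iff _ _).mpr hzy
  have hsub : C ⊆ closure {(⟨z, hz⟩ : T)} := by
    rw [← hg.def]
    exact closure_minimal (Set.singleton_subset_iff.mpr (specializes_iff_mem_closure.mp hzy'))
      isClosed_closure
  have heq : closure {(⟨z, hz⟩ : T)} ⊆ C :=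
    (irreducibleComponent_mem_irreducibleComponents _).2 isIrreducible_singleton.closure hsub
  have : hC.genericPoint ⤳ (⟨z, hz⟩ : T) :=
    hg.specializes (heq (subset_closure (Set.mem_singleton _)))
  exact (((subtype_specializes_iff _ _).mp this).antisymm hzy).eq.symm

lemma closure_subset_of_mem {T : Set X} (hT : IsClosed T) {y : X} (hy : y ∈ T) :
    closure {y} ⊆ T :=
  closure_minimal (Set.singleton_subset_iff.mpr hy) hT

/-- Generators of `K₀` of coherent modules with support in a closed subset. -/
theorem generation [IsNoetherian X] (P : ObjectProperty X.Modules) (H : AddSubgroup (KZero.K0sub P))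
    (T : Closeds X) (hP : ∀ G, CohIn (T : Set X) G → P G)
    (hgen : ∀ y ∈ T, ∃ F, CohIn (closure {y}) F ∧
      Module.length (X.presheaf.stalk y) (F.presheaf.stalk y) = 1 ∧ KZero.clSub P F ∈ H)
    (G : X.Modules) (hG : CohIn (T : Set X) G) : KZero.clSub P G ∈ H := by
  induction T using WellFoundedLT.induction generalizing G with
  | ind T ih =>
    rcases (T : Set X).eq_empty_or_nonempty with hT | hT
    · have hz : IsZero G := Modules.Support.support_eq_empty_iff.mp
        (Set.subset_eq_empty hG.2 hT)
      rw [KRes.KSub.clSub_zero hz (hP _ hG)]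
      exact zero_mem H
    · obtain ⟨y, hy, hmax⟩ := exists_maximal_point T.isClosed hT
      obtain ⟨F, hF, hFy, hFH⟩ := hgen y hy
      have hFT : CohIn (T : Set X) F := ⟨hF.1, hF.2.trans (closure_subset_of_mem T.isClosed hy)⟩
      -- modules vanishing at `y` have smaller support
      have small : ∀ D, CohIn (T : Set X) D → y ∉ CohB1.support D → KZero.clSub P D ∈ H := by
        intro D hD hyD
        haveI := hD.1.2
        let T' : Closeds X := ⟨CohB1.support D, Modules.Support.isClosed_support D⟩
        have hle : T' ≤ T := hD.2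
        exact ih T' (lt_of_le_of_ne hle fun e => hyD (by
            have : y ∈ (T' : Set X) := e ▸ hy
            exact this))
          (fun K hK => hP K ⟨hK.1, hK.2.trans hD.2⟩) (fun z hz => hgen z (hle hz)) D
          ⟨hD.1, subset_rfl⟩
      suffices ∀ (ℓ : ℕ) (K : X.Modules), CohIn (T : Set X) K →
          Module.length (X.presheaf.stalk y) (K.presheaf.stalk y) = ℓ → KZero.clSub P K ∈ H by
        have hfin := Cyc.SheafLen.length_ne_top hG.1 y fun z hzy hz =>
          hmax z (hG.2 (not_subsingleton_iff_nontrivial.mpr hz)) hzy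
        exact this _ G hG (ENat.coe_toNat hfin).symm
      intro ℓ
      induction ℓ with
      | zero =>
        intro K hK hl
        exact small K hK
          (Modules.Support.not_mem_support_iff.mpr (Module.length_eq_zero_iff.mp (by simpa using hl)))
      | succ ℓ ihℓ =>
        intro K hK hl
        haveI : Nontrivial (K.presheaf.stalk y) := Module.length_pos_iff.mp (by rw [hl]; simp)
        obtain ⟨K', hK', hl', hmem⟩ := exists_reduction P hP hFT hFy hK (by rw [hl]; simp)
        have hK'H := ihℓ K' hK' (by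
          rw [hl, Nat.cast_add, Nat.cast_one] at hl'
          exact (ENat.add_left_injective_of_ne_top ENat.one_ne_top hl'))
        have hD : KZero.clSub P K - KZero.clSub P K' - KZero.clSub P F ∈ H := by
          refine (AddSubgroup.closure_le H).mpr ?_ hmem
          rintro c ⟨D, hD, hyD, rfl⟩
          exact small D hD hyD
        have := add_mem (add_mem hD hK'H) hFH
        rwa [show ∀ a b c : KZero.K0sub P, a - b - c + b + c = a from fun a b c => by abel] at this

end

end Groth.Agent.Lib.Devissage.Basic
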