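import Groth.Prelude.Def_ChowK
import Groth.Agent.Lib.Devissage.Basic
import Groth.Agent.Lib.QCoh.Pushforward
import Groth.Agent.Lib.TensorMod.QCohInv
import Groth.Agent.H75.RedSub
import Mathlib.AlgebraicGeometry.Properties

/-!
# The structure sheaf of the reduced closure of a point

It is coherent, supported in the closure, and its stalk at the point has length one.
-/

set_option autoImplicit false
universe u

open CategoryTheory Limits AlgebraicGeometry Opposite TopologicalSpace

namespace Groth.Agent.Lib.Devissage.Closure

noncomputable section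

variable {X : Scheme.{u}}

/-- The structure sheaf of a closed subscheme is coherent. -/
lemma isCoh_push_structureModule {Z : Scheme.{u}} (i : Z ⟶ X) [IsClosedImmersion i] :
    Coh.IsCoh ((Coh.push i).obj (Coh.structureModule Z)) := by
  haveI : (Coh.structureModule Z).IsQuasicoherent := TensorMod.QCohInv.isQCoh_structureModule Z
  haveI : ((Coh.push i).obj (Coh.structureModule Z) : X.Modules).IsQuasicoherent :=
    QCoh.Pushforward.isQCoh_pushforward i (M := Coh.structureModule Z)
  refine CohBasics.Closure.isCoh_of_finite_sections fun U hU => ?_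
  refine Module.Finite.of_surjective
    (LinearMap.toSpanSingleton Γ(X, U) Γ((Coh.push i).obj (Coh.structureModule Z), U)
      (show Γ(Z, i ⁻¹ᵁ U) from 1)) fun s => ?_
  obtain ⟨r, hr⟩ :=
    ((isClosedImmersion_iff_isAffineHom (f := i)).mp ‹_›).2 U hU (show Γ(Z, i ⁻¹ᵁ U) from s)
  exact ⟨r, (mul_one (i.app U r)).trans hr⟩

lemma isCoh_closureStructureSheaf (ζ : X) : Coh.IsCoh (Cyc.closureStructureSheaf ζ) :=
  isCoh_push_structureModule _

lemma range_ptIdeal (ζ : X) :
    Set.range (IntMult.ptIdeal ζ).subschemeι = closure ({ζ} : Set X) := by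
  rw [Scheme.IdealSheafData.range_subschemeι]
  rfl

lemma support_closureStructureSheaf (ζ : X) :
    CohB1.support (Cyc.closureStructureSheaf ζ) ⊆ closure {ζ} := fun y hy => by
  by_contra h
  exact hy (Cyc.SheafLen.subsingleton_push_stalk _ _ _ isClosed_closure
    (fun z _ => range_ptIdeal ζ ▸ Set.mem_range_self z) y h)

lemma cohIn_closureStructureSheaf (ζ : X) :
    Basic.CohIn (closure {ζ}) (Cyc.closureStructureSheaf ζ) :=
  ⟨isCoh_closureStructureSheaf ζ, support_closureStructureSheaf ζ⟩

lemma length_closureStructureSheaf (ζ : X) :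
    Module.length (X.presheaf.stalk ζ) ((Cyc.closureStructureSheaf ζ).presheaf.stalk ζ) = 1 := by
  let i := (IntMult.ptIdeal ζ).subschemeι
  haveI : AlgebraicGeometry.IsReduced (IntMult.ptIdeal ζ).subscheme :=
    H75.RedSub.isReduced_vanishingIdeal _
  obtain ⟨z, hz⟩ : ζ ∈ Set.range i := by
    rw [range_ptIdeal]; exact subset_closure rfl
  have hcl : closure {z} = Set.univ := by
    rw [i.isClosedEmbedding.isInducing.closure_eq_preimage_closure_image, Set.image_singleton, hz,
      ← range_ptIdeal ζ, Set.preimage_range]
  have hmem : closure {z} ∈ irreducibleComponents (IntMult.ptIdeal ζ).subscheme := by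
    rw [hcl]
    exact ⟨hcl ▸ isIrreducible_singleton.closure, fun _ _ _ => Set.subset_univ _⟩
  let := (isField_stalk_of_closure_mem_irreducibleComponents _ z hmem).toField
  obtain ⟨e⟩ := Cyc.SheafLen.exists_unit_stalk_equiv z
  have key := Cyc.SheafLen.length_push_stalk i (Coh.structureModule _) z
  rw [e.length_eq] at key
  have one : Module.length ((IntMult.ptIdeal ζ).subscheme.presheaf.stalk z)
      ((IntMult.ptIdeal ζ).subscheme.presheaf.stalk z) = 1 := by
    rw [Module.length_eq_one_iff]; infer_instance
  have := key.trans one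
  rw [hz] at this
  exact this

lemma exists_generator (y : X) :
    ∃ F, Basic.CohIn (closure {y}) F ∧
      Module.length (X.presheaf.stalk y) (F.presheaf.stalk y) = 1 :=
  ⟨_, cohIn_closureStructureSheaf y, length_closureStructureSheaf y⟩

end

end Groth.Agent.Lib.Devissage.Closure
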