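import Groth.Agent.Lib.Modules.StalkModule
import Groth.Agent.Lib.QCoh.Localizing
import Mathlib.Topology.Sheaves.SheafCondition.UniqueGluing

/-!
# Skyscraper `O_X`-modules

`sky y L`: the skyscraper module at a point `y` of a module `L` over `O_{X,y}`; morphisms
`M ⟶ sky y L` are given by linear maps `M_y → L` (`toSky`), and it is quasi-coherent as soon as
the maximal ideal acts locally nilpotently on `L` (`isQCoh_sky`).
-/

set_option autoImplicit false
universe u

open CategoryTheory Limits AlgebraicGeometry Opposite TopologicalSpace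

namespace Groth.Agent.Lib.Devissage.Sky

open QCoh.Localizing

noncomputable section

variable {X : Scheme.{u}} (y : X) (L : Type u) [AddCommGroup L]
  [Module (X.presheaf.stalk y) L]

/-- The sections of the skyscraper over `U`. -/
abbrev Sec (U : X.Opens) : Type u := PLift (y ∈ U) → L

/-- The action of functions on the sections of the skyscraper. -/
instance secModule (U : X.Opens) : Module Γ(X, U) (Sec y L U) where
  smul r f h := X.presheaf.germ U y h.down r • f h
  one_smul f := funext fun h => show X.presheaf.germ U y h.down 1 • f h = f h by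
    rw [map_one, one_smul]
  mul_smul r s f := funext fun h => show X.presheaf.germ U y h.down (r * s) • f h = _ by
    rw [map_mul, mul_smul]; rfl
  smul_zero r := funext fun h => show X.presheaf.germ U y h.down r • (0 : L) = 0 from smul_zero _
  smul_add r f g := funext fun h => smul_add _ (f h) (g h)
  add_smul r s f := funext fun h => show X.presheaf.germ U y h.down (r + s) • f h = _ by
    rw [map_add, add_smul]; rfl
  zero_smul f := funext fun h => show X.presheaf.germ U y h.down 0 • f h = (0 : L) by
    rw [map_zero, zero_smul]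

lemma sec_smul_apply {U : X.Opens} (r : Γ(X, U)) (f : Sec y L U) (h : PLift (y ∈ U)) :
    (r • f) h = X.presheaf.germ U y h.down r • f h := rfl

/-- The skyscraper presheaf of groups. -/
def skyAb : X.Opensᵒᵖ ⥤ AddCommGrpCat.{u} where
  obj U := AddCommGrpCat.of (Sec y L U.unop)
  map i := AddCommGrpCat.ofHom
    { toFun := fun f h => f ⟨i.unop.le h.down⟩
      map_zero' := rfl
      map_add' := fun _ _ => rfl }

instance (U : X.Opensᵒᵖ) : Module (X.ringCatSheaf.obj.obj U) ((skyAb y L).obj U) :=
  secModule y L U.unop

/-- The skyscraper presheaf of modules. -/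
def skyPre : PresheafOfModules.{u} X.ringCatSheaf.obj :=
  PresheafOfModules.ofPresheaf (R := X.ringCatSheaf.obj) (skyAb y L) fun U V i r f =>
    funext fun (h : PLift (y ∈ V.unop)) => by
      show X.presheaf.germ U.unop y (i.unop.le h.down) r • f _ =
        X.presheaf.germ V.unop y h.down (X.presheaf.map i r) • f _
      exact congrArg (· • f _) (TopCat.Presheaf.germ_res_apply X.presheaf i.unop y h.down r).symm

lemma isSheaf_skyAb : TopCat.Presheaf.IsSheaf (skyAb y L) := by
  rw [TopCat.Presheaf.isSheaf_iff_isSheafUniqueGluing]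
  intro ι U sf hsf
  refine ⟨fun h => sf (Opens.mem_iSup.mp h.down).choose ⟨(Opens.mem_iSup.mp h.down).choose_spec⟩,
    fun i => funext fun h => ?_, fun s hs => funext fun h => ?_⟩
  · exact congrFun (hsf _ i)
      ⟨⟨(Opens.mem_iSup.mp ((le_iSup U i) h.down)).choose_spec, h.down⟩⟩
  · exact congrFun (hs (Opens.mem_iSup.mp h.down).choose)
      ⟨(Opens.mem_iSup.mp h.down).choose_spec⟩

/-- The skyscraper module. -/
def sky : X.Modules where
  val := skyPre y L
  isSheaf := isSheaf_skyAb y L

lemma res_apply {U V : X.Opens} (hVU : V ≤ U) (f : Γ(sky y L, U)) (h : PLift (y ∈ V)) :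
    (show Sec y L V from res (sky y L) hVU f) h = (show Sec y L U from f) ⟨hVU h.down⟩ := rfl

lemma smul_apply {U : X.Opens} (r : Γ(X, U)) (f : Γ(sky y L, U)) (h : PLift (y ∈ U)) :
    (show Sec y L U from r • f) h = X.presheaf.germ U y h.down r • (show Sec y L U from f) h := rfl

variable {y L}

lemma germ_eq_iff {U V : X.Opens} (hU : y ∈ U) (hV : y ∈ V) (f : Γ(sky y L, U)) (g : Γ(sky y L, V)) :
    (sky y L).presheaf.germ U y hU f = (sky y L).presheaf.germ V y hV g ↔
      (show Sec y L U from f) ⟨hU⟩ = (show Sec y L V from g) ⟨hV⟩ := by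
  constructor
  · intro h
    obtain ⟨W, hW, iU, iV, e⟩ := TopCat.Presheaf.germ_eq (sky y L).presheaf y hU hV f g h
    exact congrFun e ⟨hW⟩
  · intro h
    refine TopCat.Presheaf.germ_ext (sky y L).presheaf (U ⊓ V) ⟨hU, hV⟩ (homOfLE inf_le_left)
      (homOfLE inf_le_right) (funext fun h' => ?_)
    exact h

variable (y L) in
/-- The stalk of the skyscraper at its point. -/
def stalkEquiv : L ≃ₗ[X.presheaf.stalk y] (sky y L).presheaf.stalk y :=
  LinearEquiv.ofBijective
    { toFun := fun l => (sky y L).presheaf.germ ⊤ y trivial (fun _ => l : Sec y L ⊤)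
      map_add' := fun a b => map_add ((sky y L).presheaf.germ ⊤ y trivial).hom
        (fun _ => a : Sec y L ⊤) (fun _ => b : Sec y L ⊤)
      map_smul' := fun c l => by
        obtain ⟨U, hU, r, rfl⟩ := TopCat.Presheaf.exists_germ_eq X.presheaf c
        change _ = X.presheaf.germ U y hU r • (sky y L).presheaf.germ ⊤ y trivial _
        rw [← TopCat.Presheaf.germ_res_apply (sky y L).presheaf (homOfLE (le_top : U ≤ ⊤)) y hU
            (fun _ => l : Sec y L ⊤), ← Modules.StalkModule.germ_smul, germ_eq_iff]
        rfl }
    ⟨fun a b h => (germ_eq_iff (y := y) (L := L) _ _ _ _).mp h, fun z => by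
      obtain ⟨U, hU, f, rfl⟩ := TopCat.Presheaf.exists_germ_eq (sky y L).presheaf z
      exact ⟨(show Sec y L U from f) ⟨hU⟩, (germ_eq_iff (y := y) (L := L) _ _ _ _).mpr rfl⟩⟩

lemma stalkEquiv_eq {U : X.Opens} (hU : y ∈ U) (f : Γ(sky y L, U)) :
    stalkEquiv y L ((show Sec y L U from f) ⟨hU⟩) = (sky y L).presheaf.germ U y hU f :=
  (germ_eq_iff (y := y) (L := L) _ _ _ _).mpr rfl

variable {M : X.Modules}

/-- The morphism to a skyscraper given by a linear map on the stalk. -/
def toSky (φ : M.presheaf.stalk y →ₗ[X.presheaf.stalk y] L) : M ⟶ sky y L where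
  val := PresheafOfModules.homMk
    { app := fun U => AddCommGrpCat.ofHom
        { toFun := fun (s : Γ(M, U.unop)) (h : PLift (y ∈ U.unop)) =>
            φ (M.presheaf.germ U.unop y h.down s)
          map_zero' := funext fun h => by
            exact (congrArg φ (map_zero (M.presheaf.germ U.unop y h.down).hom)).trans (map_zero φ)
          map_add' := fun a b => funext fun h => by
            exact (congrArg φ (map_add (M.presheaf.germ U.unop y h.down).hom a b)).trans
              (map_add φ _ _) }
      naturality := fun U V i => by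
        ext (s : Γ(M, U.unop))
        exact funext fun (h : PLift (y ∈ V.unop)) =>
          congrArg φ (TopCat.Presheaf.germ_res_apply M.presheaf i.unop y h.down s) }
    fun U r s => funext fun (h : PLift (y ∈ U.unop)) => by
      show φ (M.presheaf.germ U.unop y h.down
          ((show Γ(X, U.unop) from r) • (show Γ(M, U.unop) from s))) =
        X.presheaf.germ U.unop y h.down r • φ (M.presheaf.germ U.unop y h.down s)
      rw [Modules.StalkModule.germ_smul, map_smul]

lemma stalkMapₗ_toSky (φ : M.presheaf.stalk y →ₗ[X.presheaf.stalk y] L) (z : M.presheaf.stalk y) :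
    Modules.StalkModule.stalkMapₗ (toSky φ) y z = stalkEquiv y L (φ z) := by
  obtain ⟨U, hU, s, rfl⟩ := TopCat.Presheaf.exists_germ_eq M.presheaf z
  rw [Modules.StalkModule.stalkMapₗ_germ]
  exact (stalkEquiv_eq hU ((toSky φ).app U s)).symm

variable (y L) in
/-- The skyscraper is quasi-coherent when the maximal ideal acts locally nilpotently. -/
theorem isQCoh_sky
    (hL : ∀ a : X.presheaf.stalk y, ¬ IsUnit a → ∀ l : L, ∃ n : ℕ, a ^ n • l = 0) :
    (sky y L).IsQuasicoherent := by
  classical
  refine isQCoh_of_forall_exists_localizes fun x => ?_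
  obtain ⟨U, hU, hxU, -⟩ := exists_isAffineOpen_mem_and_subset (U := ⊤) (x := x) trivial
  refine ⟨U, hU, hxU, fun f => ⟨fun s => ?_, fun t ht => ?_⟩⟩
  · refine ⟨0, fun h : PLift (y ∈ U) => (if h' : y ∈ X.basicOpen f then
      (show Sec y L (X.basicOpen f) from s) ⟨h'⟩ else 0), ?_⟩
    rw [pow_zero, one_smul]
    refine funext fun (h : PLift (y ∈ X.basicOpen f)) => ?_
    exact dif_pos h.down
  · by_cases hy : y ∈ U
    · by_cases hf : y ∈ X.basicOpen f
      · refine ⟨0, ?_⟩
        rw [pow_zero, one_smul]
        refine funext fun (h : PLift (y ∈ U)) => ?_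
        exact congrFun ht ⟨hf⟩
      · obtain ⟨n, hn⟩ := hL (X.presheaf.germ U y hy f)
          (fun hu => hf ((RingedSpace.mem_basicOpen _ f y hy).mpr hu))
          ((show Sec y L U from t) ⟨hy⟩)
        refine ⟨n, funext fun (h : PLift (y ∈ U)) => ?_⟩
        show X.presheaf.germ U y h.down (f ^ n) • (show Sec y L U from t) h = 0
        rw [map_pow]
        exact hn
    · exact ⟨0, funext fun (h : PLift (y ∈ U)) => absurd h.down hy⟩

end

end Groth.Agent.Lib.Devissage.Sky
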