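import Groth.Agent.Lib.Devissage.Closure
import Groth.Agent.Lib.SchColim29.CohExtend
import Groth.Prelude.Def_SGA6

/-!
# The localization sequence for `K₀` of coherent modules

Coherent modules extend from an open subscheme of a Noetherian scheme; two extensions, and more
generally two coherent modules isomorphic on the open, have the same class modulo the classes of
modules supported on the complement.
-/

set_option autoImplicit false
set_option linter.style.haveILetI false
set_option linter.unusedSectionVars false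

universe u

open CategoryTheory CategoryTheory.Limits AlgebraicGeometry Opposite ZeroObject

namespace Groth.Agent.Lib.Devissage.Localization

open Groth.Agent.Lib

noncomputable section

attribute [local instance] HasFiniteBiproducts.of_hasFiniteProducts

open scoped ZeroObject

variable {X X' U : Scheme.{u}} [IsNoetherian X] (i : X' ⟶ X) [IsClosedImmersion i]
  (j : U ⟶ X) [IsOpenImmersion j] [PreservesFiniteLimits (Scheme.Modules.restrictFunctor j)]

local notation "Rj" => Scheme.Modules.restrictFunctor j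
local notation "cohP" => (fun M : Scheme.Modules _ => Coh.IsCoh M)

/-- Restriction is exact. -/
lemma preservesFiniteColimits_restrict : PreservesFiniteColimits (Rj) :=
  haveI : PreservesColimitsOfSize.{0, 0} (Rj) :=
    (Scheme.Modules.restrictAdjunction j).leftAdjoint_preservesColimits
  PreservesColimitsOfSize.preservesFiniteColimits _

lemma isNoetherian_open {X U : Scheme.{u}} [IsNoetherian X] (j : U ⟶ X) [IsOpenImmersion j] :
    IsNoetherian U :=
  { toIsLocallyNoetherian := isLocallyNoetherian_of_isOpenImmersion j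
    toCompactSpace := by
      haveI : TopologicalSpace.NoetherianSpace U :=
        Topology.IsInducing.noetherianSpace j.isOpenEmbedding.isInducing
      infer_instance }

lemma isCoh_restrict {X U : Scheme.{u}} [IsNoetherian X] (j : U ⟶ X) [IsOpenImmersion j]
    {M : X.Modules} (hM : Coh.IsCoh M) : Coh.IsCoh (M.restrict j) := by
  haveI := hM.1
  haveI : Coh.IsQCoh (M.restrict j) := inferInstance
  refine CohBasics.Closure.isCoh_of_finite_sections fun V hV => ?_
  exact (TensorMod.TensorQCoh.finite_restrict_iff j M V).2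
    (CohBasics.Closure.finite_sections hM (hV.image_of_isOpenImmersion j))

lemma kernel_ι_fac {A B : X.Modules} (p : A ⟶ B) :
    kernel.ι p ≫ Abelian.factorThruImage p = 0 := by
  rw [← cancel_mono (Abelian.image.ι p)]
  simp

lemma shortExact_image {A B : X.Modules} (p : A ⟶ B) :
    (ShortComplex.mk (kernel.ι p) (Abelian.factorThruImage p) (kernel_ι_fac p)).ShortExact := by
  refine ShortComplex.ShortExact.mk' ?_ inferInstance inferInstance
  exact ShortComplex.exact_of_f_is_kernel _ (isKernelOfComp (Abelian.image.ι p) p (kernelIsKernel p)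
    (kernel_ι_fac p) (Abelian.image.fac p))

lemma clSub_congr {X : Scheme.{u}} {A B : X.Modules} (e : A ≅ B) (hA : Coh.IsCoh A) (hB : Coh.IsCoh B)
    (hZ : Coh.IsCoh (cokernel (𝟙 A))) :
    KZero.clSub (fun M : X.Modules => Coh.IsCoh M) A =
      KZero.clSub (fun M : X.Modules => Coh.IsCoh M) B := by
  have h0 : IsZero (cokernel (𝟙 A)) := (isZero_zero _).of_iso (cokernel.ofEpi _)
  have := KRes.KSub.rel (P := fun M : X.Modules => Coh.IsCoh M) (KRes.KSub.shortExact_iso e h0) hA hB hZ
  dsimp at this
  rw [this, KRes.KSub.clSub_zero h0 hZ, add_zero]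

lemma isQCoh_push {N : U.Modules} (hN : N.IsQuasicoherent) :
    ((Scheme.Modules.pushforward j).obj N).IsQuasicoherent :=
  haveI := hN
  haveI := isNoetherian_open j
  QCoh.Pushforward.isQCoh_pushforward j (M := N)

/-- The unit becomes invertible after restriction. -/
lemma isIso_map_unit (M : X.Modules) :
    IsIso ((Rj).map ((Scheme.Modules.restrictAdjunction j).unit.app M)) :=
  IsIso.of_isIso_fac_right ((Scheme.Modules.restrictAdjunction j).left_triangle_components M)

/-- Coherent modules extend. -/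
theorem exists_extension {N : U.Modules} (hN : Coh.IsCoh N) :
    ∃ G : X.Modules, Coh.IsCoh G ∧ Nonempty ((Rj).obj G ≅ N) := by
  haveI := isNoetherian_open j
  let U₀ := j.opensRange
  let e : U ≅ (U₀ : Scheme.{u}) := j.isoOpensRange
  have he : e.hom ≫ U₀.ι = j := Scheme.Hom.isoOpensRange_hom_ι j
  let R₀ := Scheme.Modules.restrictFunctor U₀.ι
  let Re := Scheme.Modules.restrictFunctor e.hom
  haveI : IsNoetherian (U₀ : Scheme.{u}) := isNoetherian_open U₀.ι
  let N₀ : (U₀ : Scheme.{u}).Modules := (Scheme.Modules.restrictFunctor e.inv).obj N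
  have hN₀ : Coh.IsCoh N₀ := isCoh_restrict e.inv hN
  let P := (Scheme.Modules.pushforward U₀.ι).obj N₀
  haveI : P.IsQuasicoherent := isQCoh_push U₀.ι hN₀.1
  let g := (Scheme.Modules.restrictAdjunction U₀.ι).counit.app N₀
  obtain ⟨M, c, hM, hepi⟩ := SchColim29.CohExtend.exists_lift U₀ hN₀ g
  let I := Abelian.image c
  haveI : I.IsQuasicoherent := by
    haveI := hM.1
    haveI : (cokernel c).IsQuasicoherent := QCoh.Closure.isQCoh_cokernel c
    exact QCoh.Closure.isQCoh_kernel _
  have hI : Coh.IsCoh I := CohBasics.Closure.isCoh_of_epi (Abelian.factorThruImage c) hM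
  let ψ := R₀.map (Abelian.image.ι c) ≫ g
  have hfac : R₀.map (Abelian.factorThruImage c) ≫ ψ = R₀.map c ≫ g := by
    simp only [ψ]
    rw [← Functor.map_comp_assoc, Abelian.image.fac]
  haveI : Epi (R₀.map (Abelian.factorThruImage c) ≫ ψ) := by rw [hfac]; exact hepi
  haveI : Epi ψ := epi_of_epi (R₀.map (Abelian.factorThruImage c)) ψ
  haveI : Mono ψ := mono_comp _ _
  haveI : IsIso ψ := isIso_of_mono_of_epi ψ
  refine ⟨I, hI, ⟨?_⟩⟩
  exact (Scheme.Modules.restrictFunctorCongr he).symm.app I ≪≫
    (Scheme.Modules.restrictFunctorComp e.hom U₀.ι).app I ≪≫ Re.mapIso (asIso ψ) ≪≫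
    (Scheme.Modules.restrictFunctorComp e.hom e.inv).symm.app N ≪≫
    (Scheme.Modules.restrictFunctorCongr e.hom_inv_id).app N ≪≫
    (Scheme.Modules.restrictFunctorId).app N

variable (hU : Set.range j = (Set.range i)ᶜ)
  [(Scheme.Modules.pushforward i).Additive] [PreservesFiniteLimits (Scheme.Modules.pushforward i)]
  [PreservesFiniteColimits (Scheme.Modules.pushforward i)]
  (hi : ∀ M : X'.Modules, Coh.IsCoh M → Coh.IsCoh ((Scheme.Modules.pushforward i).obj M))

/-- The image of `i_*`. -/
abbrev img : AddSubgroup (KZero.K0sub (fun M : X.Modules => Coh.IsCoh M)) :=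
  (SGA6.mapSub (Scheme.Modules.pushforward i) (fun M : X'.Modules => Coh.IsCoh M)
    (fun M : X.Modules => Coh.IsCoh M) hi).range

include hU in
/-- Classes of modules vanishing on the open come from the closed subscheme. -/
theorem mem_img {G : X.Modules} (hG : Coh.IsCoh G) (hG0 : IsZero ((Rj).obj G)) :
    KZero.clSub (fun M : X.Modules => Coh.IsCoh M) G ∈ img i hi := by
  have hsupp : CohB1.support G ⊆ Set.range i := by
    intro x hx
    by_contra h
    have : x ∈ Set.range j := by rw [hU]; exact h
    obtain ⟨w, rfl⟩ := this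
    have h' := (Modules.Support.support_eq_empty_iff.mpr hG0)
    have hw : w ∈ CohB1.support ((Rj).obj G) := by
      change w ∈ CohB1.support (G.restrict j)
      rw [Modules.Support.support_restrict j G]
      exact hx
    rw [h'] at hw
    exact hw
  haveI : IsLocallyNoetherian X' := LocallyOfFiniteType.isLocallyNoetherian i
  refine Basic.generation _ _ ⟨Set.range i, i.isClosedEmbedding.isClosed_range⟩
    (fun _ h => h.1) (fun y hy => ?_) G ⟨hG, hsupp⟩
  obtain ⟨z, rfl⟩ := hy
  obtain ⟨F', hF', hl⟩ := Closure.exists_generator z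
  refine ⟨(Scheme.Modules.pushforward i).obj F', ⟨hi _ hF'.1, fun y hy => ?_⟩, ?_,
    ⟨KZero.clSub (fun M : X'.Modules => Coh.IsCoh M) F', KRes.KSub.mapSub_cl _ hi hF'.1⟩⟩
  · by_contra h
    refine hy (Cyc.SheafLen.subsingleton_push_stalk i F' _ isClosed_closure (fun w hw => ?_) y h)
    have hw' : w ∈ closure {z} := hF'.2 (not_subsingleton_iff_nontrivial.mpr hw)
    have := (specializes_iff_mem_closure.mpr hw').map i.continuous
    exact specializes_iff_mem_closure.mp this
  · exact (Cyc.SheafLen.length_push_stalk i F' z).trans hl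

include hU in
lemma sub_mem_of_isIso {H G : X.Modules} (hH : Coh.IsCoh H) (hG : Coh.IsCoh G) (p : H ⟶ G)
    [IsIso ((Rj).map p)] :
    KZero.clSub (fun M : X.Modules => Coh.IsCoh M) G -
      KZero.clSub (fun M : X.Modules => Coh.IsCoh M) H ∈ img i hi := by
  haveI := preservesFiniteColimits_restrict j
  haveI := hH.1
  haveI := hG.1
  have hK : Coh.IsCoh (kernel p) := CohBasics.Closure.isCoh_kernel p hH hG.1
  have hC : Coh.IsCoh (cokernel p) := CohBasics.Closure.isCoh_cokernel p hH.1 hG
  have hI : Coh.IsCoh (Abelian.image p) := CohBasics.Closure.isCoh_image p hH.1 hG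
  have hK0 : IsZero ((Rj).obj (kernel p)) := by
    refine IsZero.of_iso ?_ (PreservesKernel.iso (Rj) p)
    exact IsZero.of_iso (isZero_zero _) (kernel.ofMono _)
  have hC0 : IsZero ((Rj).obj (cokernel p)) := by
    refine IsZero.of_iso ?_ (PreservesCokernel.iso (Rj) p)
    exact IsZero.of_iso (isZero_zero _) (cokernel.ofEpi _)
  have h1 : (ShortComplex.mk (kernel.ι p) (Abelian.factorThruImage p)
      (kernel_ι_fac p)).ShortExact := shortExact_image p
  have h2 := Basic.exists_ses_mono (Abelian.image.ι p)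
  have e1 := KRes.KSub.rel (P := fun M : X.Modules => Coh.IsCoh M) h1 hK hH hI
  let eC : cokernel (Abelian.image.ι p) ≅ cokernel p :=
    ((cokernelIsoOfEq (Abelian.image.fac p)).symm ≪≫ cokernelEpiComp _ _).symm
  have hC' : Coh.IsCoh (cokernel (Abelian.image.ι p)) := CohBasics.Closure.isCoh_of_iso eC.symm hC
  have e2 := KRes.KSub.rel (P := fun M : X.Modules => Coh.IsCoh M) h2 hI hG hC'
  dsimp at e1 e2
  have m1 := mem_img i j hU hi hK hK0
  have m2 := mem_img i j hU hi hC' (hC0.of_iso ((Rj).mapIso eC))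
  rw [e1, e2]
  convert sub_mem m2 m1 using 1
  abel

include hU in
/-- Coherent modules isomorphic on the open have equal classes modulo the closed subscheme. -/
theorem sub_mem_of_iso {G G' : X.Modules} (hG : Coh.IsCoh G) (hG' : Coh.IsCoh G')
    (φ : (Rj).obj G ≅ (Rj).obj G') :
    KZero.clSub (fun M : X.Modules => Coh.IsCoh M) G -
      KZero.clSub (fun M : X.Modules => Coh.IsCoh M) G' ∈ img i hi := by
  let η := (Scheme.Modules.restrictAdjunction j).unit
  let a := η.app G ≫ (Scheme.Modules.pushforward j).map φ.hom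
  let b : G' ⟶ (Scheme.Modules.pushforward j).obj ((Rj).obj G') := η.app G'
  haveI : IsIso ((Rj).map b) := isIso_map_unit j G'
  haveI : IsIso ((Rj).map a) := by
    haveI := isIso_map_unit j G
    rw [Functor.map_comp]
    infer_instance
  have hq : Coh.IsQCoh ((Scheme.Modules.pushforward j).obj ((Rj).obj G')) :=
    isQCoh_push j (isCoh_restrict j hG').1
  have hH : Coh.IsCoh (pullback a b) := CohBasics.Closure.isCoh_pullback a b hG hG' hq
  have hsq := (IsPullback.of_hasPullback a b).map (Rj)
  haveI : IsIso ((Rj).map (pullback.fst a b)) := hsq.isIso_fst_of_isIso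
  haveI : IsIso ((Rj).map (pullback.snd a b)) := hsq.isIso_snd_of_isIso
  convert sub_mem (sub_mem_of_isIso i j hU hi hH hG (pullback.fst a b))
    (sub_mem_of_isIso i j hU hi hH hG' (pullback.snd a b)) using 1
  abel

/-- A chosen extension. -/
def ext (N : U.Modules) : X.Modules :=
  open Classical in if h : Coh.IsCoh N then (exists_extension j h).choose else 0

lemma ext_spec {N : U.Modules} (h : Coh.IsCoh N) :
    Coh.IsCoh (ext j N) ∧ Nonempty ((Rj).obj (ext j N) ≅ N) := by
  rw [ext, dif_pos h]
  exact (exists_extension j h).choose_spec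

/-- The class of an extension. -/
def F (N : U.Modules) : KZero.K0sub (fun M : X.Modules => Coh.IsCoh M) ⧸ img i hi :=
  QuotientAddGroup.mk (KZero.clSub (fun M : X.Modules => Coh.IsCoh M) (ext j N))

include hU in
lemma F_eq {N : U.Modules} (hN : Coh.IsCoh N) {G : X.Modules} (hG : Coh.IsCoh G)
    (φ : (Rj).obj G ≅ N) :
    F i j hi N = QuotientAddGroup.mk (KZero.clSub (fun M : X.Modules => Coh.IsCoh M) G) := by
  obtain ⟨h, ⟨ψ⟩⟩ := ext_spec j hN
  exact QuotientAddGroup.eq_iff_sub_mem.mpr (sub_mem_of_iso i j hU hi h hG (ψ ≪≫ φ.symm))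

include hU in
lemma F_additive (S : ShortComplex U.Modules) (hS : S.ShortExact) (h₁ : Coh.IsCoh S.X₁)
    (h₂ : Coh.IsCoh S.X₂) (h₃ : Coh.IsCoh S.X₃) :
    F i j hi S.X₂ = F i j hi S.X₁ + F i j hi S.X₃ := by
  haveI := preservesFiniteColimits_restrict j
  obtain ⟨hG, ⟨φ⟩⟩ := ext_spec j h₂
  let G := ext j S.X₂
  let q : (Rj).obj G ⟶ S.X₃ := φ.hom ≫ S.g
  let g : G ⟶ (Scheme.Modules.pushforward j).obj S.X₃ :=
    (Scheme.Modules.restrictAdjunction j).homEquiv _ _ q
  have hq : Coh.IsQCoh ((Scheme.Modules.pushforward j).obj S.X₃) := isQCoh_push j h₃.1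
  haveI := hG.1
  haveI := hq
  have hA : Coh.IsCoh (kernel g) := CohBasics.Closure.isCoh_kernel g hG hq
  let T : ShortComplex X.Modules := ShortComplex.mk (kernel.ι g) (Abelian.factorThruImage g)
    (kernel_ι_fac g)
  haveI : (Abelian.image g).IsQuasicoherent := by
    haveI : (cokernel g).IsQuasicoherent := QCoh.Closure.isQCoh_cokernel g
    exact QCoh.Closure.isQCoh_kernel _
  have hI : Coh.IsCoh (Abelian.image g) :=
    CohBasics.Closure.isCoh_of_epi (Abelian.factorThruImage g) hG
  have hT : T.ShortExact := shortExact_image g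
  have e := KRes.KSub.rel (P := fun M : X.Modules => Coh.IsCoh M) hT hA hG hI
  haveI : Epi q := @epi_comp _ _ _ _ _ _ inferInstance _ hS.epi_g
  let ε := (Scheme.Modules.restrictAdjunction j).counit.app S.X₃
  have hfac : (Rj).map g ≫ ε = q :=
    ((Scheme.Modules.restrictAdjunction j).homEquiv_counit _ _ _).symm.trans
      (Equiv.symm_apply_apply _ q)
  let ψ : (Rj).obj (Abelian.image g) ⟶ S.X₃ := (Rj).map (Abelian.image.ι g) ≫ ε
  have hψ : (Rj).map T.g ≫ ψ = q := by
    simp only [ψ, T]
    rw [← Functor.map_comp_assoc, Abelian.image.fac, hfac]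
  haveI : Epi ψ := by
    haveI : Epi ((Rj).map T.g ≫ ψ) := by rw [hψ]; infer_instance
    exact epi_of_epi ((Rj).map T.g) ψ
  haveI : Mono ψ := mono_comp _ _
  haveI : IsIso ψ := isIso_of_mono_of_epi ψ
  have hT' := hT.map_of_exact (Rj)
  let e₂₃ : (Rj).obj (kernel g) ≅ S.X₁ :=
    (hT'.fIsKernel.conePointUniqueUpToIso (kernelIsKernel ((Rj).map T.g))) ≪≫
      (kernelCompMono ((Rj).map T.g) ψ).symm ≪≫ kernelIsoOfEq hψ ≪≫
      kernelIsIsoComp φ.hom S.g ≪≫
      (hS.fIsKernel.conePointUniqueUpToIso (kernelIsKernel S.g)).symm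
  rw [F_eq i j hU hi h₁ hA e₂₃, F_eq i j hU hi h₃ hI (asIso ψ), F_eq i j hU hi h₂ hG φ,
    ← QuotientAddGroup.mk_add]
  exact congrArg _ e

include hU in
/-- The localization sequence. -/
theorem exact_sequence [(Rj).Additive] [PreservesFiniteColimits (Rj)]
    (hj : ∀ M : X.Modules, Coh.IsCoh M → Coh.IsCoh ((Rj).obj M)) :
    Function.Surjective (SGA6.mapSub (Rj) (fun M : X.Modules => Coh.IsCoh M)
        (fun M : U.Modules => Coh.IsCoh M) hj) ∧
      (SGA6.mapSub (Rj) (fun M : X.Modules => Coh.IsCoh M)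
        (fun M : U.Modules => Coh.IsCoh M) hj).ker = img i hi := by
  let r := SGA6.mapSub (Rj) (fun M : X.Modules => Coh.IsCoh M)
    (fun M : U.Modules => Coh.IsCoh M) hj
  refine ⟨fun y => ?_, le_antisymm (fun x hx => ?_) ?_⟩
  · suffices r.range = ⊤ from AddMonoidHom.range_eq_top.mp this y
    refine KRes.KSub.closure_eq_top fun N hN => ?_
    obtain ⟨hG, ⟨φ⟩⟩ := ext_spec j hN
    refine ⟨KZero.clSub _ (ext j N), ?_⟩
    rw [KRes.KSub.mapSub_cl _ hj hG]
    exact clSub_congr φ (hj _ hG) hN (CohBasics.Closure.isCoh_cokernel _ (hj _ hG).1 (hj _ hG))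
  · let ψ := KRes.KSub.lift (P := fun M : U.Modules => Coh.IsCoh M) (F i j hi)
      (fun S hS a b c => F_additive i j hU hi S hS a b c)
    have hcomp : ψ.comp r = QuotientAddGroup.mk' (img i hi) := KRes.KSub.hom_ext fun G hG => by
      show ψ (r _) = _
      rw [KRes.KSub.mapSub_cl _ hj hG, KRes.KSub.lift_cl _ _ (hj _ hG)]
      exact F_eq i j hU hi (hj _ hG) hG (Iso.refl _)
    have := DFunLike.congr_fun hcomp x
    refine (QuotientAddGroup.eq_zero_iff x).mp (this.symm.trans ?_)
    show ψ (r x) = 0
    rw [show r x = 0 from hx, map_zero]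
  · rintro _ ⟨y, rfl⟩
    suffices r.comp (SGA6.mapSub (Scheme.Modules.pushforward i) (fun M : X'.Modules => Coh.IsCoh M)
        (fun M : X.Modules => Coh.IsCoh M) hi) = 0 from DFunLike.congr_fun this y
    refine KRes.KSub.hom_ext fun M hM => ?_
    show r (_) = 0
    rw [KRes.KSub.mapSub_cl _ hi hM, KRes.KSub.mapSub_cl _ hj (hi _ hM)]
    refine KRes.KSub.clSub_zero (Modules.Support.support_eq_empty_iff.mp ?_) (hj _ (hi _ hM))
    refine Set.eq_empty_iff_forall_notMem.mpr fun w hw => ?_
    change w ∈ CohB1.support (((Scheme.Modules.pushforward i).obj M).restrict j) at hw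
    rw [Modules.Support.support_restrict] at hw
    have hjw : j w ∉ Set.range i := fun h => by
      have : j w ∈ Set.range j := ⟨w, rfl⟩
      rw [hU] at this
      exact this h
    exact hw (Cyc.SheafLen.subsingleton_push_stalk i M _ i.isClosedEmbedding.isClosed_range
      (fun z _ => ⟨z, rfl⟩) (j w) hjw)

end

end Groth.Agent.Lib.Devissage.Localization
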