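import Groth.Agent.Lib.Devissage.FlatLoc
import Groth.Agent.Lib.Devissage.Closure
import Groth.Agent.Lib.Cyc.Dev.SchemeEquiv
import Groth.Agent.Lib.DerivedOX.ProjClosed
import Groth.Agent.Lib.CurveBundle.TorsorSquare
import Groth.Agent.Lib.Modules.SupportOps
import Groth.Agent.H75.RedSub

/-!
# `K₀` of coherent modules is generated by what generates it on all fibres
-/

set_option autoImplicit false
set_option linter.style.haveILetI false
set_option linter.unusedSectionVars false

universe u

open CategoryTheory CategoryTheory.Limits AlgebraicGeometry TopologicalSpace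

namespace Groth.Agent.Lib.Devissage.FibreGen

open Groth.Agent.Lib

noncomputable section

local notation "cohP" => (fun M : Scheme.Modules _ => Coh.IsCoh M)

theorem cl_iso {X : Scheme.{u}} {A B : X.Modules} (e : A ≅ B) (hA : Coh.IsCoh A) :
    KZero.clSub (fun M : X.Modules => Coh.IsCoh M) A = KZero.clSub (fun M : X.Modules => Coh.IsCoh M) B :=
  Localization.clSub_congr e hA (CohBasics.Closure.isCoh_of_iso e hA)
    (CohBasics.Closure.isCoh_cokernel _ hA.1 hA)

/-- An isomorphism preserves generators of `K₀`. -/
theorem closure_pullback_iso {U V : Scheme.{u}} (c : U ⟶ V) [IsIso c] {m : ℕ} (E : Fin m → V.Modules)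
    (hE : ∀ a, Coh.IsCoh (E a))
    (h : AddSubgroup.closure (Set.range fun a => KZero.clSub (fun M : V.Modules => Coh.IsCoh M) (E a)) = ⊤) :
    AddSubgroup.closure (Set.range fun a => KZero.clSub (fun M : U.Modules => Coh.IsCoh M)
      ((Scheme.Modules.pullback c).obj (E a))) = ⊤ := by
  haveI : (Scheme.Modules.pullback c).Additive :=
    (Scheme.Modules.pullbackPushforwardAdjunction c).left_adjoint_additive
  haveI := CohDelta.BC.Flat.preservesFiniteLimits_pullback c
  haveI : PreservesFiniteColimits (Scheme.Modules.pullback c) :=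
    haveI : PreservesColimitsOfSize.{0, 0} (Scheme.Modules.pullback c) :=
      (Scheme.Modules.pullbackPushforwardAdjunction c).leftAdjoint_preservesColimits
    PreservesColimitsOfSize.preservesFiniteColimits _
  let φ := SGA6.mapSub (Scheme.Modules.pullback c) (fun M : V.Modules => Coh.IsCoh M)
    (fun M : U.Modules => Coh.IsCoh M) (fun _ hM => Cyc.FP.Stalk.isCoh_pullback c hM)
  refine KRes.KSub.closure_eq_top fun G hG => ?_
  let G' := (Scheme.Modules.pullback (inv c)).obj G
  have hG' : Coh.IsCoh G' := Cyc.FP.Stalk.isCoh_pullback (inv c) hG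
  have e : φ (KZero.clSub (fun M : V.Modules => Coh.IsCoh M) G') =
      KZero.clSub (fun M : U.Modules => Coh.IsCoh M) G :=
    (KRes.KSub.mapSub_cl _ _ hG').trans (cl_iso ((Scheme.Modules.pullbackComp c (inv c)).app G ≪≫
      (Scheme.Modules.pullbackCongr (IsIso.hom_inv_id c)).app G ≪≫ (Scheme.Modules.pullbackId _).app G)
      (Cyc.FP.Stalk.isCoh_pullback c hG'))
  rw [← e]
  have hmem : KZero.clSub (fun M : V.Modules => Coh.IsCoh M) G' ∈ AddSubgroup.closure
      (Set.range fun a => KZero.clSub (fun M : V.Modules => Coh.IsCoh M) (E a)) := by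
    rw [h]; trivial
  have := AddSubgroup.mem_map_of_mem φ hmem
  rw [AddMonoidHom.map_closure] at this
  refine AddSubgroup.closure_mono ?_ this
  rintro _ ⟨_, ⟨a, rfl⟩, rfl⟩
  exact ⟨a, (KRes.KSub.mapSub_cl _ _ (hE a)).symm⟩

variable {X S : Scheme.{u}} [IsNoetherian X] [IsNoetherian S] (f : X ⟶ S) [Flat f]

/-- The generation statement. -/
theorem eq_top {m : ℕ} (E : Fin m → X.Modules) (hE : ∀ a, Coh.IsCoh (E a))
    (hfib : ∀ s : S, AddSubgroup.closure (Set.range fun a : Fin m =>
      KZero.clSub (fun M : (f.fiber s).Modules => Coh.IsCoh M) ((Scheme.Modules.pullback (f.fiberι s)).obj (E a))) = ⊤)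
    (H : AddSubgroup (KZero.K0sub (fun M : X.Modules => Coh.IsCoh M)))
    (hH : ∀ (a : Fin m) (M : S.Modules), Coh.IsCoh M →
      KZero.clSub (fun M : X.Modules => Coh.IsCoh M)
        (CohB1.tensorMod (E a) ((Scheme.Modules.pullback f).obj M)) ∈ H) : H = ⊤ := by
  suffices key : ∀ T : Closeds S, ∀ G : X.Modules, Coh.IsCoh G → CohB1.support G ⊆ ⇑f ⁻¹' (T : Set S) →
      KZero.clSub (fun M : X.Modules => Coh.IsCoh M) G ∈ H from
    KRes.KSub.closure_eq_top fun G hG => key ⊤ G hG fun x _ => Set.mem_univ (f x)
  intro T
  induction T using WellFoundedLT.induction with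
  | ind T ih =>
    intro G hG hsupp
    refine Basic.generation _ H ⟨⇑f ⁻¹' (T : Set S), T.isClosed.preimage f.continuous⟩
      (fun _ h => h.1) (fun y hy => ?_) G ⟨hG, hsupp⟩
    obtain ⟨F, hF, hl⟩ := Closure.exists_generator y
    by_cases hs : closure {f y} = (T : Set S)
    swap
    · refine ⟨F, hF, hl, ih ⟨closure {f y}, isClosed_closure⟩ ?_ F hF.1 fun x hx => ?_⟩
      · exact lt_of_le_of_ne (T.isClosed.closure_subset_iff.mpr (Set.singleton_subset_iff.mpr hy))
          fun h => hs (congrArg (fun C : Closeds S => (C : Set S)) h)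
      · exact (specializes_iff_mem_closure.mp
          ((specializes_iff_mem_closure.mpr (hF.2 hx)).map f.continuous))
    -- the generic case
    let I := IntMult.ptIdeal (f y)
    let i := I.subschemeι
    haveI : AlgebraicGeometry.IsReduced I.subscheme := H75.RedSub.isReduced_vanishingIdeal _
    obtain ⟨z, hz⟩ : f y ∈ Set.range i := by
      rw [Closure.range_ptIdeal]; exact subset_closure rfl
    have hcl : closure {z} = Set.univ := by
      rw [i.isClosedEmbedding.isInducing.closure_eq_preimage_closure_image, Set.image_singleton, hz,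
        ← Closure.range_ptIdeal (f y), Set.preimage_range]
    have hfield : IsField (I.subscheme.presheaf.stalk z) :=
      isField_stalk_of_closure_mem_irreducibleComponents _ z (by
        rw [hcl]
        exact ⟨hcl ▸ isIrreducible_singleton.closure, fun _ _ _ => Set.subset_univ _⟩)
    haveI : Flat (I.subscheme.fromSpecResidueField z) := by
      rw [Flat.iff_flat_stalkMap]
      intro p
      have hp : I.subscheme.fromSpecResidueField z p = z := by
        have : I.subscheme.fromSpecResidueField z p ∈ Set.range (I.subscheme.fromSpecResidueField z) :=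
          ⟨p, rfl⟩
        rwa [Scheme.range_fromSpecResidueField] at this
      have hfp : IsField (I.subscheme.presheaf.stalk (I.subscheme.fromSpecResidueField z p)) := by
        rw [hp]; exact hfield
      letI := hfp.toField
      letI := ((I.subscheme.fromSpecResidueField z).stalkMap p).hom.toAlgebra
      show Module.Flat _ _
      infer_instance
    haveI : IsAffineHom (I.subscheme.fromSpecResidueField z) := ⟨fun W hW => by
      by_cases h : z ∈ W
      · convert isAffineOpen_top (Spec (I.subscheme.residueField z))
        rw [eq_top_iff]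
        intro p _
        show I.subscheme.fromSpecResidueField z p ∈ W
        have : I.subscheme.fromSpecResidueField z p ∈ Set.range (I.subscheme.fromSpecResidueField z) :=
          ⟨p, rfl⟩
        rw [Scheme.range_fromSpecResidueField] at this
        rwa [Set.mem_singleton_iff.mp this]
      · convert isAffineOpen_bot (Spec (I.subscheme.residueField z))
        rw [eq_bot_iff]
        intro p hp
        have : I.subscheme.fromSpecResidueField z p ∈ Set.range (I.subscheme.fromSpecResidueField z) :=
          ⟨p, rfl⟩
        rw [Scheme.range_fromSpecResidueField] at this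
        exact absurd (Set.mem_singleton_iff.mp this ▸ hp) h⟩
    -- the preimage
    let i' : pullback f i ⟶ X := pullback.fst f i
    let f' : pullback f i ⟶ I.subscheme := pullback.snd f i
    have hsq : IsPullback i' f' f i := IsPullback.of_hasPullback f i
    haveI : IsClosedImmersion i' := MorphismProperty.pullback_fst _ _ inferInstance
    haveI : Flat f' := MorphismProperty.pullback_snd _ _ inferInstance
    haveI : IsNoetherian (pullback f i) :=
      { toIsLocallyNoetherian := LocallyOfFiniteType.isLocallyNoetherian i'
        toCompactSpace := QuasiCompact.compactSpace_of_compactSpace i' }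
    let j := f'.fiberι z
    haveI : Flat j := MorphismProperty.pullback_fst _ _ inferInstance
    haveI : IsAffineHom j := MorphismProperty.pullback_fst _ _ inferInstance
    obtain ⟨c, hc, hciso⟩ : ∃ c : f'.fiber z ⟶ f.fiber (i z), c ≫ f.fiberι (i z) = j ≫ i' ∧ IsIso c := by
      have h := isPullback_fiberToSpecResidueField_of_isPullback hsq z
      refine ⟨pullback.map _ _ _ _ i' (Spec.map (i.residueFieldMap z)) i hsq.w.symm (by simp), ?_, ?_⟩
      · exact pullback.lift_fst _ _ _
      · haveI : IsIso (i.residueFieldMap z) := by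
          refine (ConcreteCategory.isIso_iff_bijective _).mpr ⟨(i.residueFieldMap z).hom.injective, ?_⟩
          intro b
          obtain ⟨b', rfl⟩ := Scheme.residue_surjective _ z b
          obtain ⟨a, rfl⟩ := i.stalkMap_surjective z b'
          exact ⟨S.residue _ a, ConcreteCategory.congr_hom (Scheme.residue_residueFieldMap i z) a⟩
        exact h.isIso_fst_of_isIso
    -- the direct image
    haveI : PreservesFiniteColimits (Scheme.Modules.pushforward i') :=
      PreservesColimitsOfSize.preservesFiniteColimits _
    haveI : PreservesFiniteLimits (Scheme.Modules.pushforward i') :=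
      haveI := (Scheme.Modules.pullbackPushforwardAdjunction i').isRightAdjoint
      haveI : PreservesLimitsOfSize.{0, 0} (Scheme.Modules.pushforward i') := inferInstance
      PreservesLimitsOfSize.preservesFiniteLimits _
    have hpush : ∀ M : (pullback f i).Modules, Coh.IsCoh M →
        Coh.IsCoh ((Scheme.Modules.pushforward i').obj M) :=
      fun M hM => Cyc.Dev.SchemeEquiv.isCoh_push i' hM
    let π := SGA6.mapSub (Scheme.Modules.pushforward i') (fun M : (pullback f i).Modules => Coh.IsCoh M)
      (fun M : X.Modules => Coh.IsCoh M) hpush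
    -- the classes of the generators
    have hgen : ∀ a, π (KZero.clSub (fun M : (pullback f i).Modules => Coh.IsCoh M)
        ((Scheme.Modules.pullback i').obj (E a))) ∈ H := by
      intro a
      have hEa := Cyc.FP.Stalk.isCoh_pullback i' (hE a)
      rw [KRes.KSub.mapSub_cl _ hpush hEa]
      obtain ⟨eb⟩ := CurveBundle.TorsorSquare.push_baseChange i f f' i' hsq.flip
      haveI := DerivedOX.ProjClosed.isIso_theta i' (E a) (Coh.structureModule (pullback f i))
      let e : CohB1.tensorMod (E a) ((Scheme.Modules.pullback f).obj ((Coh.push i).obj (Coh.structureModule I.subscheme))) ≅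
          (Scheme.Modules.pushforward i').obj ((Scheme.Modules.pullback i').obj (E a)) :=
        TensorMod.Basic.tensorIso (Iso.refl _) eb ≪≫
          asIso (Modules.ProjFormula.theta i' (E a) (Coh.structureModule (pullback f i))) ≪≫
          (Scheme.Modules.pushforward i').mapIso (TensorMod.Basic.rightUnit _)
      rw [cl_iso e.symm (hpush _ hEa)]
      exact hH a _ (Closure.isCoh_push_structureModule i)
    -- classes vanishing on the generic fibre
    have hker : FlatLoc.kerL j ≤ H.comap π := by
      refine (AddSubgroup.closure_le _).mpr ?_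
      rintro _ ⟨D, hD, hD0, rfl⟩
      show π _ ∈ H
      rw [KRes.KSub.mapSub_cl _ hpush hD]
      haveI := hD.2
      have hC : IsClosed (CohB1.support D) := Modules.Support.isClosed_support D
      have havoid : ∀ w ∈ CohB1.support D, f (i' w) ≠ f y := by
        intro w hw hwy
        have hwz : f' w = z := i.isClosedEmbedding.injective (by
          rw [hz, ← hwy, ← Scheme.Hom.comp_apply, ← hsq.w, Scheme.Hom.comp_apply])
        obtain ⟨v, rfl⟩ : w ∈ Set.range j := by
          rw [Scheme.Hom.range_fiberι]; exact hwz
        have h0 := Modules.Support.support_eq_empty_iff.mpr hD0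
        rw [Modules.SupportOps.support_pullback] at h0
        exact (Set.eq_empty_iff_forall_notMem.mp h0) v hw
      obtain ⟨S', hS'⟩ := NoetherianSpace.exists_finset_irreducible (α := ↥(pullback f i)) ⟨_, hC⟩
      obtain ⟨hirr, hsup⟩ := hS'
      choose g hg using fun k : S' => QuasiSober.sober (hirr k) k.1.isClosed
      have hmem_iff : ∀ w, w ∈ CohB1.support D ↔ ∃ k : S', w ∈ (k.1 : Set ↥(pullback f i)) := fun w => by
        have e : CohB1.support D = ((S'.sup id : Closeds ↥(pullback f i)) : Set ↥(pullback f i)) :=
          congrArg (fun C : Closeds ↥(pullback f i) => (C : Set ↥(pullback f i))) hsup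
        rw [e, Closeds.coe_finset_sup]
        simp
      let T' : Closeds S := ⟨⋃ k : S', closure {f (i' (g k))}, isClosed_iUnion_of_finite fun _ => isClosed_closure⟩
      have hgmem : ∀ k : S', g k ∈ CohB1.support D := fun k => (hmem_iff _).mpr ⟨k, (hg k).mem⟩
      have hsub : CohB1.support ((Scheme.Modules.pushforward i').obj D) ⊆ ⇑f ⁻¹' (T' : Set S) := by
        intro x hx
        by_contra hxT
        refine hx (Cyc.SheafLen.subsingleton_push_stalk i' D _ (T'.isClosed.preimage f.continuous)
          (fun w hw => ?_) x hxT)
        obtain ⟨k, hk⟩ := (hmem_iff w).mp (not_subsingleton_iff_nontrivial.mpr hw)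
        refine Set.mem_iUnion.mpr ⟨k, specializes_iff_mem_closure.mp ?_⟩
        exact (((hg k).specializes hk).map i'.continuous).map f.continuous
      refine ih T' (lt_of_le_of_ne (fun t ht => ?_) fun hT' => ?_) _ (hpush D hD) hsub
      · obtain ⟨k, hk⟩ := Set.mem_iUnion.mp ht
        have hmem : f (i' (g k)) ∈ (T : Set S) := by
          rw [← hs, ← Closure.range_ptIdeal (f y)]
          exact ⟨f' (g k), by rw [← Scheme.Hom.comp_apply, ← hsq.w, Scheme.Hom.comp_apply]⟩
        exact T.isClosed.closure_subset_iff.mpr (Set.singleton_subset_iff.mpr hmem) hk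
      · have : f y ∈ (T' : Set S) := by
          rw [hT']; exact hy
        obtain ⟨k, hk⟩ := Set.mem_iUnion.mp this
        refine havoid _ (hgmem k) (Specializes.antisymm (specializes_iff_mem_closure.mpr hk) ?_).eq
        refine specializes_iff_mem_closure.mpr ?_
        rw [← Closure.range_ptIdeal (f y)]
        exact ⟨f' (g k), by rw [← Scheme.Hom.comp_apply, ← hsq.w, Scheme.Hom.comp_apply]⟩
    -- conclusion
    obtain ⟨y', hy'⟩ : y ∈ Set.range i' := by
      rw [Scheme.Pullback.range_fst, Closure.range_ptIdeal]
      exact subset_closure rfl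
    rw [← hy']
    obtain ⟨F', hF', hl'⟩ := Closure.exists_generator y'
    refine ⟨(Scheme.Modules.pushforward i').obj F', ⟨hpush _ hF'.1, fun x hx => ?_⟩,
      (Cyc.SheafLen.length_push_stalk i' F' y').trans hl', ?_⟩
    · by_contra h
      refine hx (Cyc.SheafLen.subsingleton_push_stalk i' F' _ isClosed_closure (fun w hw => ?_) x h)
      have hw' : w ∈ closure {y'} := hF'.2 (not_subsingleton_iff_nontrivial.mpr hw)
      exact specializes_iff_mem_closure.mp ((specializes_iff_mem_closure.mpr hw').map i'.continuous)
    · haveI : PreservesFiniteColimits (Scheme.Modules.pullback j) := FlatLoc.preservesFiniteColimits_pb j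
      let r := SGA6.mapSub (Scheme.Modules.pullback j) (fun M : (pullback f i).Modules => Coh.IsCoh M)
        (fun M : (f'.fiber z).Modules => Coh.IsCoh M) (fun _ hM => FlatLoc.isCoh_pb j hM)
      let N' := AddSubgroup.closure (Set.range fun a => KZero.clSub (fun M : (pullback f i).Modules => Coh.IsCoh M)
        ((Scheme.Modules.pullback i').obj (E a)))
      have htop : N'.map r = ⊤ := by
        rw [eq_top_iff, ← closure_pullback_iso c _ (fun a => Cyc.FP.Stalk.isCoh_pullback _ (hE a)) (hfib (i z)),
          AddMonoidHom.map_closure]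
        refine AddSubgroup.closure_mono ?_
        rintro _ ⟨a, rfl⟩
        refine ⟨_, ⟨a, rfl⟩, ?_⟩
        rw [KRes.KSub.mapSub_cl _ _ (Cyc.FP.Stalk.isCoh_pullback i' (hE a))]
        exact cl_iso ((Scheme.Modules.pullbackComp j i').app (E a) ≪≫
          (Scheme.Modules.pullbackCongr hc.symm).app (E a) ≪≫
          ((Scheme.Modules.pullbackComp c (f.fiberι (i z))).app (E a)).symm)
          (FlatLoc.isCoh_pb j (Cyc.FP.Stalk.isCoh_pullback i' (hE a)))
      obtain ⟨n, hn, hne⟩ : r (KZero.clSub _ F') ∈ N'.map r := by rw [htop]; trivial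
      have h1 : π (KZero.clSub _ F' - n) ∈ H :=
        hker (FlatLoc.mem_of_map_eq_zero j (show r _ = 0 by rw [map_sub, hne, sub_self]))
      have h2 : π n ∈ H := by
        refine ((AddSubgroup.closure_le (K := H.comap π)).mpr ?_) hn
        rintro _ ⟨a, rfl⟩
        exact hgen a
      have := add_mem h1 h2
      rwa [← map_add, sub_add_cancel, KRes.KSub.mapSub_cl _ hpush hF'.1] at this

end

end Groth.Agent.Lib.Devissage.FibreGen
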