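import Groth.Agent.S3200
import Groth.Agent.Lib.Perfect.Regular
import Groth.Agent.Lib.Perfect.Coherent
import Groth.Agent.Lib.RefHull.LocFree
import Groth.Agent.Lib.KRes.KSub
import Groth.Prelude.Def_PerfAux

/-!
# `K₀` of vector bundles and of coherent modules on a regular scheme with the resolution property
-/

set_option autoImplicit false
set_option linter.style.haveILetI false
set_option linter.unusedSectionVars false

universe u

open CategoryTheory CategoryTheory.Limits AlgebraicGeometry

namespace Groth.Agent.Lib.Devissage.LocFreeK0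

open Groth.Agent.Lib Groth.Agent.Lib.Modules.StalkModule
open Groth.Agent.Lib.Regular.PD

noncomputable section

variable {X : Scheme.{u}}

lemma isCoh_of_locFree {M : X.Modules} (h : FlatMod.IsFinLocFree M) : Coh.IsCoh M :=
  Perfect.Coherent.isCoh_of_isFinLocFree h

/-- The projective dimension of a stalk. -/
abbrev PD (M : X.Modules) (x : X) (n : ℕ) : Prop :=
  HasProjectiveDimensionLT ((stalkModFunctor X x).obj M) (n + 1)

lemma pd_zero_of_locFree {M : X.Modules} (h : FlatMod.IsFinLocFree M) (x : X) : PD M x 0 := by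
  haveI : Module.Free (X.presheaf.stalk x) (M.presheaf.stalk x) := RefHull.LocFree.free_stalk h x
  haveI : Module.Projective (X.presheaf.stalk x) (M.presheaf.stalk x) := inferInstance
  exact pdle_zero_iff.2 this

lemma projective_of_locFree {M : X.Modules} (h : FlatMod.IsFinLocFree M) (x : X) :
    Projective ((stalkModFunctor X x).obj M) :=
  projective_iff_hasProjectiveDimensionLT_one.2 (pd_zero_of_locFree h x)

variable [IsNoetherian X]

lemma locFree_of_pd_zero {M : X.Modules} (hM : Coh.IsCoh M) (h : ∀ x, PD M x 0) :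
    FlatMod.IsFinLocFree M := by
  refine RefHull.LocFree.isFinLocFree hM fun x => ?_
  haveI : Module.Projective (X.presheaf.stalk x) (M.presheaf.stalk x) := pdle_zero_iff.1 (h x)
  haveI := RefHull.LocFree.finite_stalk hM x
  exact Module.free_of_flat_of_isLocalRing

lemma locFree_ext {S : ShortComplex X.Modules} (hS : S.ShortExact) (hq : S.X₂.IsQuasicoherent)
    (hf : SheafOfModules.IsFiniteType (R := X.ringCatSheaf) S.X₂)
    (h₁ : FlatMod.IsFinLocFree S.X₁) (h₃ : FlatMod.IsFinLocFree S.X₃) : FlatMod.IsFinLocFree S.X₂ :=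
  locFree_of_pd_zero ⟨hq, hf⟩ fun x =>
    (hS.map_of_exact (stalkModFunctor X x)).hasProjectiveDimensionLT_X₂ 1
      (pd_zero_of_locFree h₁ x) (pd_zero_of_locFree h₃ x)

lemma locFree_kernel {S : ShortComplex X.Modules} (hS : S.ShortExact)
    (h₁ : Coh.IsCoh S.X₁) (h₂ : FlatMod.IsFinLocFree S.X₂) (h₃ : FlatMod.IsFinLocFree S.X₃) :
    FlatMod.IsFinLocFree S.X₁ :=
  locFree_of_pd_zero h₁ fun x =>
    (hS.map_of_exact (stalkModFunctor X x)).hasProjectiveDimensionLT_X₁ 1
      (pd_zero_of_locFree h₂ x)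
      (@hasProjectiveDimensionLT_of_ge _ _ _ _ 1 2 (by omega) (pd_zero_of_locFree h₃ x))

lemma isCoh_extension {S : ShortComplex X.Modules} (hS : S.ShortExact) (h₁ : Coh.IsCoh S.X₁)
    (h₃ : Coh.IsCoh S.X₃) : Coh.IsCoh S.X₂ := by
  haveI := h₁.1
  haveI := h₃.1
  haveI := hS.mono_f
  haveI : S.X₂.IsQuasicoherent := QCoh.Closure.isQCoh_of_extension hS
  refine CohBasics.Closure.isCoh_of_finite_sections fun U hU => ?_
  haveI := CohBasics.Closure.finite_sections h₁ hU
  haveI := CohBasics.Closure.finite_sections h₃ hU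
  refine ⟨Submodule.fg_of_fg_map_of_fg_inf_ker (CohBasics.Affine.secₗ S.g U) ?_ ?_⟩
  · have hs : Function.Surjective (CohBasics.Affine.secₗ S.g U) :=
      QCoh.Closure.sections_surjective hS hU
    rw [Submodule.map_top, LinearMap.range_eq_top.2 hs]
    exact Module.Finite.fg_top
  · have h : (⊤ : Submodule Γ(X, U) Γ(S.X₁, U)).map (CohBasics.Affine.secₗ S.f U) = LinearMap.ker (CohBasics.Affine.secₗ S.g U) := by
      rw [Submodule.map_top]
      refine le_antisymm ?_ fun x hx => QCoh.Closure.sections_exact hS.exact U x hx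
      rintro _ ⟨y, rfl⟩
      show (S.f ≫ S.g).app U y = 0
      rw [S.zero]
      rfl
    rw [top_inf_eq, ← h]
    exact Module.Finite.fg_top.map _

/-- The comparison is bijective. -/
theorem bijective (d : ℕ)
    (hd : ∀ (x : X) (M : X.Modules), Coh.IsCoh M → PD M x d)
    (hres : PerfAux.HasResolutionProperty X)
    (hle : ∀ M : X.Modules, FlatMod.IsFinLocFree M → Coh.IsCoh M) :
    Function.Bijective (SGA6.mapSub (𝟭 X.Modules) (fun M : X.Modules => FlatMod.IsFinLocFree M)
      (fun M : X.Modules => Coh.IsCoh M) hle) := by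
  haveI : ObjectProperty.IsClosedUnderIsomorphisms (fun M : X.Modules => FlatMod.IsFinLocFree M) :=
    ⟨fun e h => TensorMod.LocFree.of_iso e h⟩
  haveI : ObjectProperty.IsClosedUnderIsomorphisms (fun M : X.Modules => Coh.IsCoh M) :=
    ⟨fun e h => CohBasics.Closure.isCoh_of_iso e h⟩
  have hext₁ : ∀ S : ShortComplex X.Modules, S.ShortExact → Coh.IsCoh S.X₁ → Coh.IsCoh S.X₃ →
      Coh.IsCoh S.X₂ := fun S hS h₁ h₃ => isCoh_extension hS h₁ h₃
  have hk : ∀ S : ShortComplex X.Modules, S.ShortExact → Coh.IsCoh S.X₂ → Coh.IsCoh S.X₃ →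
      Coh.IsCoh S.X₁ := fun S hS h₂ h₃ =>
    CohBasics.Closure.isCoh_of_iso ((kernelIsKernel S.g).conePointUniqueUpToIso hS.fIsKernel)
      (CohBasics.Closure.isCoh_kernel S.g h₂ h₃.1)
  refine Groth.Agent.S3200.result _ _ hle (fun S hS h₁ h₃ => ?_) hext₁
    (fun S hS h₂ h₃ => locFree_kernel hS (hk S hS (hle _ h₂) (hle _ h₃)) h₂ h₃) hk
    (fun A B D u v _ hA hB hD => ?_) fun A _ => ⟨d, fun L hL hex _ => ?_⟩
  · have h := hext₁ S hS (hle _ h₁) (hle _ h₃)
    exact locFree_ext hS h.1 h.2 h₁ h₃
  · have hP : Coh.IsCoh (pullback u v) := CohBasics.Closure.isCoh_pullback u v hA hD hB.1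
    obtain ⟨E, π, hE, hπ⟩ := hres _ hP.1 hP.2
    exact ⟨E, π ≫ pullback.snd u v, π ≫ pullback.fst u v, hE, inferInstance,
      by simp [pullback.condition]⟩
  · have hZ : ∀ n, Coh.IsCoh (L.cycles (n + 1)) := fun n =>
      CohBasics.Closure.isCoh_of_iso
        ((kernelIsKernel (L.d (n + 1) n)).conePointUniqueUpToIso
          (L.cyclesIsKernel (n + 1) n (by simp)))
        (CohBasics.Closure.isCoh_kernel _ (hle _ (hL _)) (hle _ (hL _)).1)
    refine locFree_of_pd_zero (hZ d) fun x => ?_
    suffices ∀ k, k ≤ d → PD (L.cycles (k + 1)) x (d - k) by simpa using this d le_rfl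
    intro k hk'
    induction k with
    | zero => simpa using hd x _ (hZ 0)
    | succ k ih =>
      have ih := ih (by omega)
      have hw : L.iCycles (k + 2) ≫ L.toCycles (k + 2) (k + 1) = 0 := by
        rw [← cancel_mono (L.iCycles (k + 1))]
        simp
      haveI : Epi (L.toCycles (k + 2) (k + 1)) :=
        Preadditive.epi_of_isZero_cokernel' _ (L.homologyIsCokernel (k + 2) (k + 1) (by simp))
          ((L.exactAt_iff_isZero_homology (k + 1)).1 (hex (k + 1) (by omega)))
      have hS : (ShortComplex.mk _ _ hw).ShortExact := by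
        refine ShortComplex.ShortExact.mk' ?_ inferInstance inferInstance
        exact ShortComplex.exact_of_f_is_kernel _ (isKernelOfComp (L.iCycles (k + 1)) (L.d (k + 2) (k + 1))
          (L.cyclesIsKernel (k + 2) (k + 1) (by simp)) hw (by simp))
      have h := ((hS.map_of_exact (stalkModFunctor X x)).hasProjectiveDimensionLT_X₃_iff
        (d - (k + 1)) (projective_of_locFree (hL (k + 2)) x)).1
      exact h (by rw [show d - (k + 1) + 2 = d - k + 1 by omega]; exact ih)

end

end Groth.Agent.Lib.Devissage.LocFreeK0
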