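import Groth.Agent.Lib.Devissage.Localization
import Groth.Agent.Lib.CechRes.PullSec
import Groth.Agent.Lib.QCohChart.Basic
import Groth.Agent.Lib.Cyc.FP.Stalk
import Groth.Agent.Lib.CohDelta.BC.Flat
import Groth.Agent.Lib.PushClosed.Unit
import Groth.Agent.Lib.Modules.ExtendFT
import Groth.Agent.Lib.CohDelta.IdealMul.DevExt
import Mathlib.AlgebraicGeometry.Morphisms.Flat

/-!
# Localisation in `K₀` along a flat affine preimmersion, such as a generic fibre
-/

set_option autoImplicit false
set_option linter.style.haveILetI false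
set_option linter.unusedSectionVars false

universe u

open CategoryTheory CategoryTheory.Limits AlgebraicGeometry Opposite TensorProduct ZeroObject

namespace Groth.Agent.Lib.Devissage.FlatLoc

open Groth.Agent.Lib Modules.StalkModule DerivedOX DerivedOX.PullbackStalk DerivedOX.FlatGen DerivedOX.GenStalk
open _root_.Groth.Agent.Lib.Devissage.Localization (kernel_ι_fac shortExact_image clSub_congr)

noncomputable section

attribute [local instance] HasFiniteBiproducts.of_hasFiniteProducts

/-- The counit along a preimmersion is an isomorphism. -/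
theorem isIso_counit {Z X : Scheme.{u}} (i : Z ⟶ X) [IsPreimmersion i] (N : Z.Modules) :
    IsIso ((Scheme.Modules.pullbackPushforwardAdjunction i).counit.app N) := by
  let adj := Scheme.Modules.pullbackPushforwardAdjunction i
  let M := (Scheme.Modules.pushforward i).obj N
  rw [isIso_iff_stalkMapₗ_bijective]
  intro z
  let f := stalkMapₗ (adj.counit.app N) z
  let v : M.presheaf.stalk (i.base z) → ((Scheme.Modules.pullback i).obj M).presheaf.stalk z := fun a =>
    pushStalkMap i z _ (stalkMapₗ (adj.unit.app M) (i.base z) a)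
  have hfv : ∀ a, f (v a) = pushStalkMap i z N a := fun a => by
    refine (pushStalkMap_natural i z (adj.counit.app N) _).symm.trans (congrArg (pushStalkMap i z N) ?_)
    rw [← LinearMap.comp_apply, ← stalkMapₗ_comp, adj.right_triangle_components N]
    exact DFunLike.congr_fun (stalkMapₗ_id _) a
  have hv : Function.Surjective v := by
    letI : Algebra (X.presheaf.stalk (i.base z)) (Z.presheaf.stalk z) := (i.stalkMap z).hom.toAlgebra
    haveI := isIso_comparison i z
    intro b
    obtain ⟨t, rfl⟩ := (ConcreteCategory.bijective_of_isIso ((comparison i z).app M)).2 b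
    suffices key : ∀ t : Z.presheaf.stalk z ⊗[X.presheaf.stalk (i.base z)] M.presheaf.stalk (i.base z),
        ∃ a, v a = (comparison i z).app M t from key t
    intro t
    induction t using TensorProduct.induction_on with
    | zero => exact ⟨0, by simp only [v]; rw [map_zero, map_zero]; exact (map_zero ((comparison i z).app M).hom).symm⟩
    | tmul c a =>
      obtain ⟨c', rfl⟩ := i.stalkMap_surjective z c
      refine ⟨c' • a, (comparison_one_tmul i z M (c' • a)).symm.trans (congrArg _ ?_)⟩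
      have e : (1 : Z.presheaf.stalk z) ⊗ₜ[X.presheaf.stalk (i.base z)] (c' • a) =
          (i.stalkMap z).hom c' ⊗ₜ[X.presheaf.stalk (i.base z)] a := by
        rw [← TensorProduct.smul_tmul, Algebra.smul_def, mul_one]
        rfl
      exact e
    | add s t hs ht =>
      obtain ⟨a, ha⟩ := hs
      obtain ⟨b, hb⟩ := ht
      exact ⟨a + b, by
        simp only [v] at ha hb ⊢
        rw [map_add, map_add, ha, hb]
        exact (map_add ((comparison i z).app M).hom s t).symm⟩
  have hb := PushClosed.Unit.bijective_pushStalkMap i N z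
  refine ⟨fun x y hxy => ?_, fun y => ?_⟩
  · obtain ⟨a, rfl⟩ := hv x
    obtain ⟨b, rfl⟩ := hv y
    change f (v a) = f (v b) at hxy
    rw [hfv, hfv] at hxy
    rw [hb.1 hxy]
  · obtain ⟨a, rfl⟩ := hb.2 y
    exact ⟨v a, hfv a⟩

variable {X U : Scheme.{u}} [IsNoetherian X] (j : U ⟶ X) [Flat j] [IsPreimmersion j]
  [IsAffineHom j]

local notation "Pj" => Scheme.Modules.pullback j

lemma preservesFiniteColimits_pb : PreservesFiniteColimits (Pj) :=
  haveI : PreservesColimitsOfSize.{0, 0} (Pj) :=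
    (Scheme.Modules.pullbackPushforwardAdjunction j).leftAdjoint_preservesColimits
  PreservesColimitsOfSize.preservesFiniteColimits _

instance preservesFiniteLimits_pb : PreservesFiniteLimits (Pj) :=
  CohDelta.BC.Flat.preservesFiniteLimits_pullback j

instance additive_pb : (Pj).Additive :=
  (Scheme.Modules.pullbackPushforwardAdjunction j).left_adjoint_additive

lemma isCoh_pb {M : X.Modules} (hM : Coh.IsCoh M) : Coh.IsCoh ((Pj).obj M) :=
  Cyc.FP.Stalk.isCoh_pullback j hM

lemma isQCoh_push {N : U.Modules} (hN : N.IsQuasicoherent) :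
    ((Scheme.Modules.pushforward j).obj N).IsQuasicoherent :=
  haveI := hN
  QCoh.Pushforward.isQCoh_pushforward j (M := N)

lemma isIso_map_unit (M : X.Modules) :
    IsIso ((Pj).map ((Scheme.Modules.pullbackPushforwardAdjunction j).unit.app M)) := by
  haveI := isIso_counit j ((Pj).obj M)
  exact IsIso.of_isIso_fac_right
    ((Scheme.Modules.pullbackPushforwardAdjunction j).left_triangle_components M)

/-- Coherent modules extend. -/
theorem exists_extension {N : U.Modules} (hN : Coh.IsCoh N) :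
    ∃ G : X.Modules, Coh.IsCoh G ∧ Nonempty ((Pj).obj G ≅ N) := by
  classical
  let P := (Scheme.Modules.pushforward j).obj N
  haveI : P.IsQuasicoherent := isQCoh_push j hN.1
  let g : (Pj).obj P ⟶ N := (Scheme.Modules.pullbackPushforwardAdjunction j).counit.app N
  haveI : IsIso g := isIso_counit j N
  have hX : ∀ x : X, ∃ V : X.Opens, x ∈ V ∧ TopologicalSpace.NoetherianSpace (V : Set X) :=
    fun x => ⟨⊤, trivial, inferInstance⟩
  obtain ⟨s, hs, hcov⟩ := (isCompact_and_isOpen_iff_finite_and_eq_biUnion_affineOpens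
    (U := (Set.univ : Set X))).mp ⟨CompactSpace.isCompact_univ, isOpen_univ⟩
  have hfin := fun V : X.affineOpens =>
    (CohBasics.Closure.finite_sections hN (V.2.preimage j)).fg_top
  choose t ht using hfin
  have hsub : ∀ (V : X.affineOpens) (n : Γ(P, V.1)),
      ∃ (H : X.Modules) (i : H ⟶ P), Coh.IsCoh H ∧ ∃ y, i.app V.1 y = n := by
    intro V n
    obtain ⟨H, i, _, hq, hft, y, hy⟩ := Modules.ExtendFT.exists_through_section (F := P) hX V.2 n
    exact ⟨H, i, ⟨hq, hft⟩, y, hy⟩
  choose H i hH y hy using hsub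
  let J := Σ V : s, ↥(t V.1)
  haveI : Finite J := by
    haveI := hs.to_subtype
    exact Finite.instSigma
  obtain ⟨d, ⟨e⟩⟩ := Finite.exists_equiv_fin J
  let A : Fin d → X.Modules := fun k => H (e.symm k).1.1 (e.symm k).2.1
  let c : (⨁ A) ⟶ P := biproduct.desc fun k => i (e.symm k).1.1 (e.symm k).2.1
  have hA : Coh.IsCoh (⨁ A) := CohDelta.IdealMul.DevExt.isCoh_biproduct _ fun k => hH _ _
  haveI := hN.1
  haveI hepi : Epi ((Pj).map c ≫ g) := QCohChart.Basic.epi_of_charts _ fun x => by
    obtain ⟨V, hV, hx⟩ : ∃ V ∈ s, j x ∈ (V.1 : Set X) := by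
      have := hcov.le (Set.mem_univ (j x))
      simpa using this
    refine ⟨j ⁻¹ᵁ V.1, V.2.preimage j, hx, ?_⟩
    let ψ : Γ((Pj).obj (⨁ A), j ⁻¹ᵁ V.1) →ₗ[Γ(U, j ⁻¹ᵁ V.1)] Γ(N, j ⁻¹ᵁ V.1) :=
      { toFun := ((Pj).map c ≫ g).app (j ⁻¹ᵁ V.1)
        map_add' := map_add (((Pj).map c ≫ g).app (j ⁻¹ᵁ V.1)).hom
        map_smul' := Scheme.Modules.Hom.app_smul _ }
    suffices hr : LinearMap.range ψ = ⊤ from LinearMap.range_eq_top.1 hr
    rw [eq_top_iff, ← ht V, Submodule.span_le]
    intro n hn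
    let k : Fin d := e ⟨⟨V, hV⟩, ⟨n, hn⟩⟩
    have h0 : e.symm k = ⟨⟨V, hV⟩, ⟨n, hn⟩⟩ := e.symm_apply_apply _
    have h1 : biproduct.ι A k ≫ c = i (e.symm k).1.1 (e.symm k).2.1 := biproduct.ι_desc _ _
    have h2 : ∃ y', (i (e.symm k).1.1 (e.symm k).2.1).app V.1 y' = n := by
      rw [h0]
      exact ⟨_, hy V n⟩
    obtain ⟨y', hy'⟩ := h2
    have h3 : c.app V.1 ((biproduct.ι A k).app V.1 y') = n :=
      (congrArg (fun φ : A k ⟶ P => φ.app V.1 y') h1).trans hy'
    refine ⟨CechRes.PullSec.mu j (⨁ A) (le_refl (j ⁻¹ᵁ V.1)) ((biproduct.ι A k).app V.1 y'), ?_⟩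
    change g.app (j ⁻¹ᵁ V.1) (((Pj).map c).app (j ⁻¹ᵁ V.1) _) = n
    rw [← CechRes.PullSec.mu_natural, h3]
    let η := (Scheme.Modules.pullbackPushforwardAdjunction j).unit.app P
    have h : η ≫ (Scheme.Modules.pushforward j).map g = 𝟙 _ :=
      (Scheme.Modules.pullbackPushforwardAdjunction j).right_triangle_components N
    refine Eq.trans (congrArg (g.app (j ⁻¹ᵁ V.1)) ?_) (congrArg (fun φ : P ⟶ P => φ.app V.1 n) h)
    show ((Pj).obj P).presheaf.map (homOfLE (le_refl (j ⁻¹ᵁ V.1))).op (η.app V.1 n) = η.app V.1 n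
    rw [show (homOfLE (le_refl (j ⁻¹ᵁ V.1))).op = 𝟙 _ from rfl, CategoryTheory.Functor.map_id]
    rfl
  haveI := hA.1
  haveI : (cokernel c).IsQuasicoherent := QCoh.Closure.isQCoh_cokernel c
  haveI : (Abelian.image c).IsQuasicoherent := QCoh.Closure.isQCoh_kernel _
  have hI : Coh.IsCoh (Abelian.image c) := CohBasics.Closure.isCoh_of_epi (Abelian.factorThruImage c) hA
  let ψ := (Pj).map (Abelian.image.ι c) ≫ g
  have hfac : (Pj).map (Abelian.factorThruImage c) ≫ ψ = (Pj).map c ≫ g := by
    simp only [ψ]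
    rw [← Functor.map_comp_assoc, Abelian.image.fac]
  haveI : Epi ((Pj).map (Abelian.factorThruImage c) ≫ ψ) := by rw [hfac]; exact hepi
  haveI : Epi ψ := epi_of_epi ((Pj).map (Abelian.factorThruImage c)) ψ
  haveI : Mono ψ := mono_comp _ _
  haveI : IsIso ψ := isIso_of_mono_of_epi ψ
  exact ⟨_, hI, ⟨asIso ψ⟩⟩

/-- The classes of modules vanishing after pullback. -/
def kerL : AddSubgroup (KZero.K0sub (fun M : X.Modules => Coh.IsCoh M)) :=
  AddSubgroup.closure {c | ∃ G : X.Modules, Coh.IsCoh G ∧ IsZero ((Pj).obj G) ∧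
    c = KZero.clSub (fun M : X.Modules => Coh.IsCoh M) G}

lemma mem_kerL {G : X.Modules} (hG : Coh.IsCoh G) (hG0 : IsZero ((Pj).obj G)) :
    KZero.clSub (fun M : X.Modules => Coh.IsCoh M) G ∈ kerL j :=
  AddSubgroup.subset_closure ⟨G, hG, hG0, rfl⟩

lemma sub_mem_of_isIso {H G : X.Modules} (hH : Coh.IsCoh H) (hG : Coh.IsCoh G) (p : H ⟶ G)
    [IsIso ((Pj).map p)] :
    KZero.clSub (fun M : X.Modules => Coh.IsCoh M) G -
      KZero.clSub (fun M : X.Modules => Coh.IsCoh M) H ∈ kerL j := by
  haveI := preservesFiniteColimits_pb j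
  haveI := hH.1
  haveI := hG.1
  have hK : Coh.IsCoh (kernel p) := CohBasics.Closure.isCoh_kernel p hH hG.1
  have hC : Coh.IsCoh (cokernel p) := CohBasics.Closure.isCoh_cokernel p hH.1 hG
  have hI : Coh.IsCoh (Abelian.image p) := CohBasics.Closure.isCoh_image p hH.1 hG
  have hK0 : IsZero ((Pj).obj (kernel p)) := by
    refine IsZero.of_iso ?_ (PreservesKernel.iso (Pj) p)
    exact IsZero.of_iso (isZero_zero _) (kernel.ofMono _)
  have hC0 : IsZero ((Pj).obj (cokernel p)) := by
    refine IsZero.of_iso ?_ (PreservesCokernel.iso (Pj) p)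
    exact IsZero.of_iso (isZero_zero _) (cokernel.ofEpi _)
  have h1 : (ShortComplex.mk (kernel.ι p) (Abelian.factorThruImage p)
      (kernel_ι_fac p)).ShortExact := shortExact_image p
  have h2 := Basic.exists_ses_mono (Abelian.image.ι p)
  have e1 := KRes.KSub.rel (P := fun M : X.Modules => Coh.IsCoh M) h1 hK hH hI
  let eC : cokernel (Abelian.image.ι p) ≅ cokernel p :=
    ((cokernelIsoOfEq (Abelian.image.fac p)).symm ≪≫ cokernelEpiComp _ _).symm
  have hC' : Coh.IsCoh (cokernel (Abelian.image.ι p)) := CohBasics.Closure.isCoh_of_iso eC.symm hC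
  have e2 := KRes.KSub.rel (P := fun M : X.Modules => Coh.IsCoh M) h2 hI hG hC'
  dsimp at e1 e2
  have m1 := mem_kerL j hK hK0
  have m2 := mem_kerL j hC' (hC0.of_iso ((Pj).mapIso eC))
  rw [e1, e2]
  convert sub_mem m2 m1 using 1
  abel

/-- Coherent modules isomorphic on the open have equal classes modulo the closed subscheme. -/
theorem sub_mem_of_iso {G G' : X.Modules} (hG : Coh.IsCoh G) (hG' : Coh.IsCoh G')
    (φ : (Pj).obj G ≅ (Pj).obj G') :
    KZero.clSub (fun M : X.Modules => Coh.IsCoh M) G -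
      KZero.clSub (fun M : X.Modules => Coh.IsCoh M) G' ∈ kerL j := by
  let η := (Scheme.Modules.pullbackPushforwardAdjunction j).unit
  let a := η.app G ≫ (Scheme.Modules.pushforward j).map φ.hom
  let b : G' ⟶ (Scheme.Modules.pushforward j).obj ((Pj).obj G') := η.app G'
  haveI : IsIso ((Pj).map b) := isIso_map_unit j G'
  haveI : IsIso ((Pj).map a) := by
    haveI := isIso_map_unit j G
    rw [Functor.map_comp]
    infer_instance
  have hq : Coh.IsQCoh ((Scheme.Modules.pushforward j).obj ((Pj).obj G')) :=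
    isQCoh_push j (isCoh_pb j hG').1
  have hH : Coh.IsCoh (pullback a b) := CohBasics.Closure.isCoh_pullback a b hG hG' hq
  have hsq := (IsPullback.of_hasPullback a b).map (Pj)
  haveI : IsIso ((Pj).map (pullback.fst a b)) := hsq.isIso_fst_of_isIso
  haveI : IsIso ((Pj).map (pullback.snd a b)) := hsq.isIso_snd_of_isIso
  convert sub_mem (sub_mem_of_isIso j hH hG (pullback.fst a b))
    (sub_mem_of_isIso j hH hG' (pullback.snd a b)) using 1
  abel

/-- A chosen extension. -/
def ext (N : U.Modules) : X.Modules :=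
  open Classical in if h : Coh.IsCoh N then (exists_extension j h).choose else 0

lemma ext_spec {N : U.Modules} (h : Coh.IsCoh N) :
    Coh.IsCoh (ext j N) ∧ Nonempty ((Pj).obj (ext j N) ≅ N) := by
  rw [ext, dif_pos h]
  exact (exists_extension j h).choose_spec

/-- The class of an extension. -/
def F (N : U.Modules) : KZero.K0sub (fun M : X.Modules => Coh.IsCoh M) ⧸ kerL j :=
  QuotientAddGroup.mk (KZero.clSub (fun M : X.Modules => Coh.IsCoh M) (ext j N))

lemma F_eq {N : U.Modules} (hN : Coh.IsCoh N) {G : X.Modules} (hG : Coh.IsCoh G)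
    (φ : (Pj).obj G ≅ N) :
    F j N = QuotientAddGroup.mk (KZero.clSub (fun M : X.Modules => Coh.IsCoh M) G) := by
  obtain ⟨h, ⟨ψ⟩⟩ := ext_spec j hN
  exact QuotientAddGroup.eq_iff_sub_mem.mpr (sub_mem_of_iso j h hG (ψ ≪≫ φ.symm))

lemma F_additive (S : ShortComplex U.Modules) (hS : S.ShortExact) (h₁ : Coh.IsCoh S.X₁)
    (h₂ : Coh.IsCoh S.X₂) (h₃ : Coh.IsCoh S.X₃) :
    F j S.X₂ = F j S.X₁ + F j S.X₃ := by
  haveI := preservesFiniteColimits_pb j
  obtain ⟨hG, ⟨φ⟩⟩ := ext_spec j h₂
  let G := ext j S.X₂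
  let q : (Pj).obj G ⟶ S.X₃ := φ.hom ≫ S.g
  let g : G ⟶ (Scheme.Modules.pushforward j).obj S.X₃ :=
    (Scheme.Modules.pullbackPushforwardAdjunction j).homEquiv _ _ q
  have hq : Coh.IsQCoh ((Scheme.Modules.pushforward j).obj S.X₃) := isQCoh_push j h₃.1
  haveI := hG.1
  haveI := hq
  have hA : Coh.IsCoh (kernel g) := CohBasics.Closure.isCoh_kernel g hG hq
  let T : ShortComplex X.Modules := ShortComplex.mk (kernel.ι g) (Abelian.factorThruImage g)
    (kernel_ι_fac g)
  haveI : (Abelian.image g).IsQuasicoherent := by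
    haveI : (cokernel g).IsQuasicoherent := QCoh.Closure.isQCoh_cokernel g
    exact QCoh.Closure.isQCoh_kernel _
  have hI : Coh.IsCoh (Abelian.image g) :=
    CohBasics.Closure.isCoh_of_epi (Abelian.factorThruImage g) hG
  have hT : T.ShortExact := shortExact_image g
  have e := KRes.KSub.rel (P := fun M : X.Modules => Coh.IsCoh M) hT hA hG hI
  haveI : Epi q := @epi_comp _ _ _ _ _ _ inferInstance _ hS.epi_g
  let ε := (Scheme.Modules.pullbackPushforwardAdjunction j).counit.app S.X₃
  haveI : IsIso ε := isIso_counit j S.X₃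
  have hfac : (Pj).map g ≫ ε = q :=
    ((Scheme.Modules.pullbackPushforwardAdjunction j).homEquiv_counit _ _ _).symm.trans
      (Equiv.symm_apply_apply _ q)
  let ψ : (Pj).obj (Abelian.image g) ⟶ S.X₃ := (Pj).map (Abelian.image.ι g) ≫ ε
  have hψ : (Pj).map T.g ≫ ψ = q := by
    simp only [ψ, T]
    rw [← Functor.map_comp_assoc, Abelian.image.fac, hfac]
  haveI : Epi ψ := by
    haveI : Epi ((Pj).map T.g ≫ ψ) := by rw [hψ]; infer_instance
    exact epi_of_epi ((Pj).map T.g) ψ
  haveI : Mono ψ := mono_comp _ _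
  haveI : IsIso ψ := isIso_of_mono_of_epi ψ
  have hT' := hT.map_of_exact (Pj)
  let e₂₃ : (Pj).obj (kernel g) ≅ S.X₁ :=
    (hT'.fIsKernel.conePointUniqueUpToIso (kernelIsKernel ((Pj).map T.g))) ≪≫
      (kernelCompMono ((Pj).map T.g) ψ).symm ≪≫ kernelIsoOfEq hψ ≪≫
      kernelIsIsoComp φ.hom S.g ≪≫
      (hS.fIsKernel.conePointUniqueUpToIso (kernelIsKernel S.g)).symm
  rw [F_eq j h₁ hA e₂₃, F_eq j h₃ hI (asIso ψ), F_eq j h₂ hG φ,
    ← QuotientAddGroup.mk_add]
  exact congrArg _ e


/-- A class vanishing after pullback comes from modules vanishing after pullback. -/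
theorem mem_of_map_eq_zero [PreservesFiniteColimits (Pj)]
    {x : KZero.K0sub (fun M : X.Modules => Coh.IsCoh M)}
    (hx : SGA6.mapSub (Pj) (fun M : X.Modules => Coh.IsCoh M)
      (fun M : U.Modules => Coh.IsCoh M) (fun _ hM => isCoh_pb j hM) x = 0) : x ∈ kerL j := by
  let r := SGA6.mapSub (Pj) (fun M : X.Modules => Coh.IsCoh M)
    (fun M : U.Modules => Coh.IsCoh M) (fun _ hM => isCoh_pb j hM)
  let ψ := KRes.KSub.lift (P := fun M : U.Modules => Coh.IsCoh M) (F j)
    (fun S hS a b c => F_additive j S hS a b c)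
  have hcomp : ψ.comp r = QuotientAddGroup.mk' (kerL j) := KRes.KSub.hom_ext fun G hG => by
    show ψ (r _) = _
    rw [KRes.KSub.mapSub_cl _ _ hG, KRes.KSub.lift_cl _ _ (isCoh_pb j hG)]
    exact F_eq j (isCoh_pb j hG) hG (Iso.refl _)
  have := DFunLike.congr_fun hcomp x
  refine (QuotientAddGroup.eq_zero_iff x).mp (this.symm.trans ?_)
  show ψ (r x) = 0
  rw [show r x = 0 from hx, map_zero]

end

end Groth.Agent.Lib.Devissage.FlatLoc
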