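import Groth.Agent.Lib.Devissage.ResolvableK0

/-!
# Finite locally free resolutions and bounded projective dimension
-/

set_option autoImplicit false
set_option linter.style.haveILetI false
set_option linter.unusedSectionVars false

universe u

open CategoryTheory CategoryTheory.Limits AlgebraicGeometry TopologicalSpace

namespace Groth.Agent.Lib.Devissage.LFResIff

open Groth.Agent.Lib Groth.Agent.Lib.Modules.StalkModule Groth.Agent.Lib.Devissage.LocFreeK0
open Groth.Agent.Lib.Regular.PD Groth.Agent.Lib.Devissage.ResolvableK0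
open Groth.Agent.Lib.KRes.Dim

noncomputable section

variable {X : Scheme.{u}} [IsNoetherian X]

local notation "P₀" => (fun M : X.Modules => FlatMod.IsFinLocFree M)

theorem exists_zero_res {Z : X.Modules} (hZ : IsZero Z) (hZf : FlatMod.IsFinLocFree Z) :
    ∃ R : Res P₀ Z, ∀ i, IsZero (R.L i) :=
  ⟨{ K := fun _ => Z, L := fun _ => Z, hK := rfl, i := fun _ => 𝟙 _, p := fun _ => 0
     w := fun _ => by simp
     se := fun _ => ShortComplex.ShortExact.mk' ((ShortComplex.exact_iff_epi _ rfl).mpr inferInstance) inferInstance (hZ.epi _)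
     hL := fun _ => hZf }, fun _ => hZ⟩

theorem exists_bounded_res (hres : KRR.HasEnoughLocFree X) : ∀ (n : ℕ) {A : X.Modules}, Coh.IsCoh A →
    (∀ x, PD A x n) → ∃ R : Res P₀ A, ∀ i, n < i → IsZero (R.L i)
  | 0, A, hA, h => by
    have hf := locFree_of_pd_zero hA h
    let c : Cover P₀ A := Cover.ofEpi _ (𝟙 A) hf
    have hz : IsZero c.K := isZero_kernel_of_mono (𝟙 A)
    have hzf : FlatMod.IsFinLocFree c.K :=
      locFree_kernel c.se (coh_kernel c.se (isCoh_of_locFree hf) hA) hf hf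
    obtain ⟨R, hR⟩ := exists_zero_res hz hzf
    refine ⟨R.cons c, fun i hi => ?_⟩
    obtain ⟨j, rfl⟩ : ∃ j, i = j + 1 := ⟨i - 1, by omega⟩
    exact hR j
  | n + 1, A, hA, h => by
    obtain ⟨E, p, hE, hp⟩ := hres A hA
    let c : Cover P₀ A := Cover.ofEpi _ p hE
    obtain ⟨R, hR⟩ := exists_bounded_res hres n (coh_kernel c.se (isCoh_of_locFree hE) hA) fun x =>
      ((c.se.map_of_exact (stalkModFunctor X x)).hasProjectiveDimensionLT_X₃_iff n
        (projective_of_locFree hE x)).1 (h x)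
    refine ⟨R.cons c, fun i hi => ?_⟩
    obtain ⟨j, rfl⟩ : ∃ j, i = j + 1 := ⟨i - 1, by omega⟩
    exact hR j (by omega)

theorem hasLFRes_of_bpd (hres : KRR.HasEnoughLocFree X) {A : X.Modules} (hA : BPD A) : KRR.HasLFRes A := by
  obtain ⟨n, hn⟩ := hA.2
  obtain ⟨R, hR⟩ := exists_bounded_res hres n hA.1 hn
  let f : R.complex.X 0 ⟶ A := R.p 0 ≫ eqToHom R.hK
  have hf : R.complex.d 1 0 ≫ f = 0 := by
    simp only [f]
    rw [R.complex_d 0]
    show (R.p 1 ≫ R.i 0) ≫ (R.p 0 ≫ eqToHom R.hK : R.L 0 ⟶ A) = 0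
    exact (Category.assoc _ _ _).trans (by rw [reassoc_of% (R.w 0), zero_comp, comp_zero])
  refine ⟨n, R.complex, (ChainComplex.toSingle₀Equiv _ _).symm ⟨f, hf⟩, R.complex_hP, hR, ⟨fun k => ?_⟩⟩
  rcases k with _ | k
  · rw [ChainComplex.quasiIsoAt₀_iff, ShortComplex.quasiIso_iff_of_zeros' _ rfl rfl rfl]
    haveI : Epi (R.p 0) := (R.se 0).epi_g
    haveI : Epi f := @epi_comp _ _ _ _ _ (R.p 0) ‹_› (eqToHom R.hK) inferInstance
    haveI : Epi (R.p 1) := (R.se 1).epi_g
    refine (ShortComplex.exact_and_epi_g_iff_of_iso ?_).2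
      (show (ShortComplex.mk (R.complex.d 1 0) f hf).Exact ∧ Epi f from ⟨?_, inferInstance⟩)
    · exact ShortComplex.isoMk (Iso.refl _) (Iso.refl _) (Iso.refl _) ((Category.id_comp _).trans (Category.comp_id _).symm)
        ((Category.id_comp _).trans (Category.comp_id _).symm)
    · exact ShortComplex.exact_of_g_is_cokernel _
        (Limits.IsCokernel.cokernelIso (R.complex.d 1 0) f (i := eqToIso R.hK)
          (isCokernelEpiComp (R.se 0).gIsCokernel (R.p 1) (R.complex_d 0)) (by simp [f]; rfl))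
  · rw [quasiIsoAt_iff_exactAt']
    · exact R.exactAt k
    · exact HomologicalComplex.exactAt_single_obj _ _ _ _ (by simp)

theorem pd_opcycles (L : ChainComplex X.Modules ℕ) (hL : ∀ i, FlatMod.IsFinLocFree (L.X i))
    (hex : ∀ i, L.ExactAt (i + 1)) (x : X) {n : ℕ} (hn : ∀ i, n < i → IsZero (L.X i)) :
    ∀ j k, j + k = n → PD (L.opcycles k) x j := by
  intro j
  induction j with
  | zero =>
    intro k hk
    obtain rfl : k = n := by omega
    haveI := L.isIso_pOpcycles (k + 1) k (by simp) ((hn (k + 1) (by omega)).eq_of_src _ _)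
    exact pd_of_iso (asIso (L.pOpcycles k)) (pd_zero_of_locFree (hL k) x)
  | succ j ih =>
    intro k hk
    have w : L.fromOpcycles (k + 1) k ≫ L.pOpcycles k = 0 := by
      rw [← cancel_epi (L.pOpcycles (k + 1)), HomologicalComplex.p_fromOpcycles_assoc]
      simp
    have hmono : Mono (L.fromOpcycles (k + 1) k) := by
      refine Preadditive.mono_of_isZero_kernel' _ (L.homologyIsKernel (k + 1) k (by simp)) ?_
      exact (L.exactAt_iff_isZero_homology (k + 1)).1 (hex k)
    have hS : (ShortComplex.mk _ _ w).ShortExact := by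
      refine ShortComplex.ShortExact.mk' ?_ hmono inferInstance
      exact ShortComplex.exact_of_g_is_cokernel _ (isCokernelOfComp (L.pOpcycles (k + 1)) (L.d (k + 1) k)
        (L.opcyclesIsCokernel (k + 1) k (by simp)) w (by simp))
    exact ((hS.map_of_exact (stalkModFunctor X x)).hasProjectiveDimensionLT_X₃_iff j
      (projective_of_locFree (hL k) x)).2 (ih (k + 1) (by omega))

theorem bpd_of_hasLFRes {A : X.Modules} (hA : Coh.IsCoh A) (h : KRR.HasLFRes A) : BPD A := by
  obtain ⟨n, L, π, hL, hn, hq⟩ := h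
  haveI := hq
  have hex : ∀ i, L.ExactAt (i + 1) := fun i =>
    (quasiIsoAt_iff_exactAt' π (i + 1) (HomologicalComplex.exactAt_single_obj _ _ _ _ (by simp))).1 inferInstance
  refine ⟨hA, n, fun x => pd_of_iso ?_ (pd_opcycles L hL hex x hn n 0 (by omega))⟩
  exact (L.isoHomologyι 0 _ rfl (L.shape _ _ (by simp))).symm ≪≫ asIso (HomologicalComplex.homologyMap π 0) ≪≫
    HomologicalComplex.singleObjHomologySelfIso (ComplexShape.down ℕ) 0 A

theorem bpd_iff (hres : KRR.HasEnoughLocFree X) (A : X.Modules) :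
    (Coh.IsCoh A ∧ KRR.HasLFRes A) ↔ BPD A :=
  ⟨fun h => bpd_of_hasLFRes h.1 h.2, fun h => ⟨h.1, hasLFRes_of_bpd hres h⟩⟩

end

end Groth.Agent.Lib.Devissage.LFResIff
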