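import Mathlib.LinearAlgebra.TensorProduct.Basis
import Mathlib.RingTheory.TensorProduct.IsBaseChangeHom

/-!
# Modules over a polynomial ring: coordinates of a base change, and the presentation of a filtered module
-/

set_option autoImplicit false

universe u

open TensorProduct

namespace Groth.Agent.Lib.Devissage.LineAlg

variable {R S : Type u} [CommRing R] [CommRing S] [Algebra R S] (t : S) (b : Module.Basis ℕ R S)
  (hb : ∀ k, b k = t ^ k) {N P : Type u} [AddCommGroup N] [Module R N]
  [AddCommGroup P] [Module R P] [Module S P] [IsScalarTower R S P] (f : N →ₗ[R] P)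

/-- `c ↦ Σ t^k f(c_k)` -/
noncomputable def coords : (ℕ →₀ N) →ₗ[R] P :=
  Finsupp.lsum R fun k => (DistribSMul.toLinearMap R P (t ^ k)) ∘ₗ f

@[simp] lemma coords_single (k : ℕ) (n : N) : coords t f (Finsupp.single k n) = t ^ k • f n := by
  simp [coords]

include hb in
theorem coords_bijective (hf : IsBaseChange S f) : Function.Bijective (coords t f) := by
  have h : ⇑(coords t f) = hf.equiv ∘ (TensorProduct.equivFinsuppOfBasisLeft b).symm := by
    funext c
    induction c using Finsupp.induction_linear with
    | zero => simp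
    | add x y hx hy => simp only [Function.comp_apply, map_add] at hx hy ⊢; rw [hx, hy]
    | single k n => simp [TensorProduct.equivFinsuppOfBasisLeft_symm_apply, hb, IsBaseChange.equiv_tmul]
  rw [h]
  exact hf.equiv.bijective.comp (LinearEquiv.bijective _)

lemma smul_coords (c : ℕ →₀ N) : t • coords t f c = coords t f (Finsupp.mapDomain Nat.succ c) := by
  induction c using Finsupp.induction_linear with
  | zero => simp
  | add x y hx hy => rw [map_add, smul_add, hx, hy, Finsupp.mapDomain_add, map_add]
  | single k n => simp [smul_smul, pow_succ']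

include hb in
/-- `x = f n + t y` -/
theorem exists_decomp (hf : IsBaseChange S f) (x : P) : ∃ n y, x = f n + t • y := by
  obtain ⟨c, rfl⟩ := (coords_bijective t b hb f hf).2 x
  induction c using Finsupp.induction_linear with
  | zero => exact ⟨0, 0, by simp⟩
  | add x y hx hy =>
    obtain ⟨n, z, e⟩ := hx
    obtain ⟨n', z', e'⟩ := hy
    exact ⟨n + n', z + z', by rw [map_add, e, e', map_add, smul_add]; abel⟩
  | single k n =>
    rw [coords_single]
    rcases k with _ | k
    · exact ⟨n, 0, by simp⟩
    · exact ⟨0, t ^ k • f n, by simp [smul_smul, pow_succ']⟩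

include hb in
theorem eq_zero_of_eq_smul (hf : IsBaseChange S f) {n : N} {y : P} (h : f n = t • y) : n = 0 := by
  obtain ⟨c, rfl⟩ := (coords_bijective t b hb f hf).2 y
  rw [smul_coords] at h
  have h' : Finsupp.single 0 n = Finsupp.mapDomain Nat.succ c :=
    (coords_bijective t b hb f hf).1 (by rw [coords_single, pow_zero, one_smul]; exact h)
  have := DFunLike.congr_fun h' 0
  rw [Finsupp.single_eq_same, Finsupp.mapDomain_of_notMem_range] at this
  · exact this
  · simp

section presentation

variable {F₀ F₁ P₀ P₁ M : Type u} [AddCommGroup F₀] [Module R F₀] [AddCommGroup F₁] [Module R F₁]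
  [AddCommGroup P₀] [Module R P₀] [Module S P₀] [IsScalarTower R S P₀]
  [AddCommGroup P₁] [Module R P₁] [Module S P₁] [IsScalarTower R S P₁]
  [AddCommGroup M] [Module S M] {f₀ : F₀ →ₗ[R] P₀} {f₁ : F₁ →ₗ[R] P₁}
  (i u : F₀ →+ F₁) (d : P₀ →ₗ[S] P₁) (hd : ∀ x, d (f₀ x) = f₁ (u x) - t • f₁ (i x))

include hb hd in
theorem injective_d (hi : Function.Injective i) (hf₀ : IsBaseChange S f₀) (hf₁ : IsBaseChange S f₁) :
    Function.Injective d := by
  classical
  rw [injective_iff_map_eq_zero]
  intro x hx
  obtain ⟨c, rfl⟩ := (coords_bijective t b hb f₀ hf₀).2 x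
  have key : d (coords t f₀ c) =
      coords t f₁ (c.mapRange u u.map_zero - Finsupp.mapDomain Nat.succ (c.mapRange i i.map_zero)) := by
    clear hx
    induction c using Finsupp.induction_linear with
    | zero => simp
    | add x y hx hy =>
      rw [map_add, map_add, hx, hy, ← map_add, Finsupp.mapRange_add u.map_add, Finsupp.mapRange_add i.map_add,
        Finsupp.mapDomain_add]
      congr 1
      abel
    | single k n =>
      rw [coords_single, map_smul, hd, Finsupp.mapRange_single, Finsupp.mapRange_single,
        Finsupp.mapDomain_single, map_sub, coords_single, coords_single, smul_sub, smul_smul,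
        ← pow_succ]
  rw [key] at hx
  have h0 := (injective_iff_map_eq_zero _).1 (coords_bijective t b hb f₁ hf₁).1 _ hx
  suffices c = 0 by simp [this]
  have hco : ∀ k, u (c (k + 1)) = i (c k) := fun k => by
    have := DFunLike.congr_fun h0 (k + 1)
    rw [Finsupp.sub_apply, Finsupp.mapRange_apply, Finsupp.mapDomain_apply Nat.succ_injective,
      Finsupp.mapRange_apply, Finsupp.zero_apply] at this
    exact sub_eq_zero.mp this
  obtain ⟨B, hB⟩ := c.support.exists_nat_subset_range
  have hz : ∀ m k, B ≤ k + m → c k = 0 := by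
    intro m
    induction m with
    | zero =>
      intro k hk
      refine Finsupp.notMem_support_iff.mp fun h => ?_
      have := Finset.mem_range.mp (hB h)
      omega
    | succ m ih =>
      intro k hk
      refine hi ?_
      rw [← hco, ih (k + 1) (by omega), map_zero, map_zero]
  exact Finsupp.ext fun k => hz B k (by omega)

variable (Fl : ℕ → AddSubgroup M) (hmono : Monotone Fl) (ht : ∀ k, ∀ x ∈ Fl k, t • x ∈ Fl (k + 1))
  (hkey : ∀ k, ∀ x ∈ Fl (k + 1), t • x ∈ Fl (k + 1) → x ∈ Fl k) (j : F₁ →+ M)
  (hj1 : ∀ y, j y ∈ Fl 1) (hj0 : ∀ m ∈ Fl 0, ∃ x, j (i x) = m) (hj : Function.Injective j)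
  (hju : ∀ x, j (u x) = t • j (i x)) (ε : P₁ →ₗ[S] M) (hε : ∀ y, ε (f₁ y) = j y)

include ht in
lemma pow_smul_mem {k : ℕ} {x : M} (hx : x ∈ Fl k) (n : ℕ) : t ^ n • x ∈ Fl (k + n) := by
  induction n with
  | zero => simpa using hx
  | succ n ih => rw [pow_succ', mul_smul]; exact ht _ _ ih

include ht hkey in
lemma mem_zero_of_pow_smul_mem {x : M} (hx : x ∈ Fl 1) (K : ℕ) (h : t ^ K • x ∈ Fl K) : x ∈ Fl 0 := by
  induction K with
  | zero => simpa using h
  | succ K ih =>
    refine ih (hkey K _ ?_ ?_)
    · have := pow_smul_mem t Fl ht hx K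
      rwa [add_comm] at this
    · rwa [← mul_smul, ← pow_succ']

omit [IsScalarTower R S P₁] in
include hd hju hε in
lemma ε_d_eq_zero (hf₀ : IsBaseChange S f₀) (x : P₀) : ε (d x) = 0 := by
  induction x using hf₀.inductionOn with
  | zero => simp
  | tmul m => rw [hd, map_sub, map_smul, hε, hε, hju, sub_self]
  | smul s m ih => rw [map_smul, map_smul, ih, smul_zero]
  | add x y hx hy => rw [map_add, map_add, hx, hy, add_zero]

include hb hd hmono ht hkey hj1 hj0 hj hju hε in
theorem exists_d_eq (hf₁ : IsBaseChange S f₁) (x : P₁) (hx : ε x = 0) : ∃ z, d z = x := by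
  classical
  obtain ⟨c, rfl⟩ := (coords_bijective t b hb f₁ hf₁).2 x
  suffices H : ∀ K, ∀ c : ℕ →₀ F₁, (∀ k, K < k → c k = 0) → ε (coords t f₁ c) = 0 →
      ∃ z, d z = coords t f₁ c by
    obtain ⟨B, hB⟩ := c.support.exists_nat_subset_range
    exact H B c (fun k hk => Finsupp.notMem_support_iff.mp fun h => by
      have := Finset.mem_range.mp (hB h); omega) hx
  clear hx c
  intro K
  induction K with
  | zero =>
    intro c hc hx
    have hc0 : c = Finsupp.single 0 (c 0) := Finsupp.ext fun k => by
      rcases k with _ | k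
      · simp
      · simp [hc (k + 1) (by omega)]
    rw [hc0, coords_single, pow_zero, one_smul, hε] at hx
    exact ⟨0, by rw [hc0, (injective_iff_map_eq_zero j).1 hj _ hx]; simp⟩
  | succ K ih =>
    intro c hc hx
    let y := c (K + 1)
    have hlow : ∀ k, K < k → (c.erase (K + 1)) k = 0 := fun k hk => by
      by_cases h : k = K + 1
      · subst h; simp
      · rw [Finsupp.erase_ne h]; exact hc k (by omega)
    have hsplit : coords t f₁ c = coords t f₁ (c.erase (K + 1)) + t ^ (K + 1) • f₁ y := by
      conv_lhs => rw [← Finsupp.erase_add_single (K + 1) c]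
      rw [map_add, coords_single]
    have hmem : ∀ c' : ℕ →₀ F₁, (∀ k, K < k → c' k = 0) → ε (coords t f₁ c') ∈ Fl (K + 1) := by
      intro c' h'
      rw [← Finsupp.sum_single c', map_finsuppSum, map_finsuppSum]
      refine AddSubgroup.sum_mem _ fun k hk => ?_
      dsimp only
      rw [coords_single, map_smul, hε]
      have hkK : k ≤ K := not_lt.mp fun h => Finsupp.mem_support_iff.mp hk (h' k h)
      exact hmono (by omega) (pow_smul_mem t Fl ht (hj1 _) k)
    have hy : j y ∈ Fl 0 := by
      refine mem_zero_of_pow_smul_mem t Fl ht hkey (hj1 y) (K + 1) ?_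
      rw [hsplit, map_add, map_smul, hε] at hx
      rw [eq_neg_of_add_eq_zero_right hx]
      exact neg_mem (hmem _ hlow)
    obtain ⟨x', hx'⟩ := hj0 _ hy
    have hxy : i x' = y := hj hx'
    let c' := c.erase (K + 1) + Finsupp.single K (u x')
    have e : coords t f₁ c' = coords t f₁ c + d (t ^ K • f₀ x') := by
      rw [map_smul, hd, hxy, hsplit, map_add, coords_single, smul_sub, smul_smul, ← pow_succ]
      abel
    obtain ⟨z, hz⟩ := ih c' (fun k hk => by
      rw [Finsupp.add_apply, hlow k hk, Finsupp.single_eq_of_ne (by omega), add_zero]) (by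
      rw [e, map_add, hx, zero_add, map_smul, hd, map_smul, map_sub, map_smul, hε, hε, hju, sub_self,
        smul_zero])
    refine ⟨z - t ^ K • f₀ x', ?_⟩
    rw [map_sub, hz, e, add_sub_cancel_right]

end presentation

end Groth.Agent.Lib.Devissage.LineAlg
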