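import Groth.Agent.Lib.Devissage.LineTorsion
import Groth.Agent.Lib.Devissage.LineAlg
import Groth.Agent.Lib.Modules.ExtendFT
import Groth.Agent.Lib.CohDelta.IdealMul.DevExt

/-!
# A coherent module on the affine line has the class of a pullback

`N ⊆ p_* G` coherent and generating gives the filtration `G₀ = N`, `G_{k+1} = G_k + t G_k`, and for
large `n` a short exact sequence `0 → p^* G_n → p^* G_{n+1} → G → 0`.
-/

set_option autoImplicit false
set_option linter.style.haveILetI false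
set_option linter.unusedSectionVars false

universe u

open CategoryTheory CategoryTheory.Limits AlgebraicGeometry

namespace Groth.Agent.Lib.Devissage.LineFil

open Groth.Agent.Lib CurveBundle.EndAlg LineTorsion

attribute [local instance] HasFiniteBiproducts.of_hasFiniteProducts

noncomputable section

variable {X : Scheme.{u}}

/-- A morphism on sections. -/
def appL {M N : X.Modules} (φ : M ⟶ N) (V : X.Opens) : Γ(M, V) →ₗ[Γ(X, V)] Γ(N, V) where
  toFun := φ.app V
  map_add' := map_add (φ.app V).hom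
  map_smul' := Scheme.Modules.Hom.app_smul φ

variable (G : (𝔸(ULift.{u} (Fin 1); X)).Modules)

/-- Multiplication by the coordinate. -/
abbrev T : push G ⟶ push G := (Scheme.Modules.pushforward (pr X)).map (scal G (co X))

/-- The coordinate over an open of the base. -/
abbrev tW (V : X.Opens) : Γ(𝔸(ULift.{u} (Fin 1); X), (pr X) ⁻¹ᵁ V) :=
  (𝔸(ULift.{u} (Fin 1); X)).presheaf.map (homOfLE (le_top (a := (pr X) ⁻¹ᵁ V))).op (co X)

/-- One more multiplication by the coordinate. -/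
abbrev st {F : X.Modules} (a : F ⟶ push G) : F ⊞ F ⟶ push G := biprod.desc a (a ≫ T G)

variable {N : X.Modules} (c : N ⟶ push G)

/-- The filtration. -/
def fil : ℕ → Σ F : X.Modules, F ⟶ push G
  | 0 => ⟨Abelian.image c, Abelian.image.ι c⟩
  | k + 1 => ⟨Abelian.image (st G (fil k).2), Abelian.image.ι (st G (fil k).2)⟩

instance mono_fil (k : ℕ) : Mono (fil G c k).2 := by
  cases k <;> exact inferInstanceAs (Mono (Abelian.image.ι _))

/-- The inclusion of a step. -/
def incl (k : ℕ) : (fil G c k).1 ⟶ (fil G c (k + 1)).1 :=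
  biprod.inl ≫ Abelian.factorThruImage (st G (fil G c k).2)

/-- The coordinate on a step. -/
def mulT (k : ℕ) : (fil G c k).1 ⟶ (fil G c (k + 1)).1 :=
  biprod.inr ≫ Abelian.factorThruImage (st G (fil G c k).2)

lemma incl_ι (k : ℕ) : incl G c k ≫ (fil G c (k + 1)).2 = (fil G c k).2 := by
  show (biprod.inl ≫ Abelian.factorThruImage _) ≫ Abelian.image.ι _ = _
  rw [Category.assoc, Abelian.image.fac, biprod.inl_desc]

lemma mulT_ι (k : ℕ) : mulT G c k ≫ (fil G c (k + 1)).2 = (fil G c k).2 ≫ T G := by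
  show (biprod.inr ≫ Abelian.factorThruImage _) ≫ Abelian.image.ι _ = _
  rw [Category.assoc, Abelian.image.fac, biprod.inr_desc]

section coherent

variable [G.IsQuasicoherent] (hN : Coh.IsCoh N)

instance : (push G).IsQuasicoherent := QCoh.Pushforward.isQCoh_pushforward (pr X) (M := G)

include hN in
lemma isCoh_fil (k : ℕ) : Coh.IsCoh (fil G c k).1 := by
  have himg : ∀ {M : X.Modules} (φ : M ⟶ push G), Coh.IsCoh M → Coh.IsCoh (Abelian.image φ) := by
    intro M φ hM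
    haveI := hM.1
    haveI : (cokernel φ).IsQuasicoherent := QCoh.Closure.isQCoh_cokernel φ
    haveI : (Abelian.image φ).IsQuasicoherent := QCoh.Closure.isQCoh_kernel _
    exact CohBasics.Closure.isCoh_of_epi (Abelian.factorThruImage φ) hM
  induction k with
  | zero => exact himg c hN
  | succ k ih =>
    refine himg _ ?_
    exact CohBasics.Closure.isCoh_biprod ih ih

end coherent

/-- The sections of a step. -/
def lev (V : X.Opens) (k : ℕ) : Submodule Γ(X, V) Γ(push G, V) := LinearMap.range (appL (fil G c k).2 V)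

variable {V : X.Opens}

lemma T_app (x : Γ(push G, V)) :
    appL (T G) V x = @id Γ(push G, V) (tW V • @id Γ(G, (pr X) ⁻¹ᵁ V) x) :=
  scal_app G (co X) ((pr X) ⁻¹ᵁ V) x

lemma mem_succ_of_mem {k : ℕ} {x : Γ(push G, V)} (hx : x ∈ lev G c V k) : x ∈ lev G c V (k + 1) := by
  obtain ⟨y, rfl⟩ := hx
  exact ⟨appL (incl G c k) V y,
    congrArg (fun φ : (fil G c k).1 ⟶ push G => φ.app V y) (incl_ι G c k)⟩

lemma T_mem {k : ℕ} {x : Γ(push G, V)} (hx : x ∈ lev G c V k) : appL (T G) V x ∈ lev G c V (k + 1) := by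
  obtain ⟨y, rfl⟩ := hx
  exact ⟨appL (mulT G c k) V y,
    congrArg (fun φ : (fil G c k).1 ⟶ push G => φ.app V y) (mulT_ι G c k)⟩

section affine

variable [G.IsQuasicoherent] (hN : Coh.IsCoh N) (hV : IsAffineOpen V)

include hN hV

lemma mem_zero {x : Γ(push G, V)} : x ∈ lev G c V 0 ↔ ∃ a, appL c V a = x := by
  constructor
  · rintro ⟨y, rfl⟩
    haveI : (Abelian.image c).IsQuasicoherent := (isCoh_fil G c hN 0).1
    haveI := hN.1
    obtain ⟨a, rfl⟩ := QCoh.Closure.sections_surjective_of_epi (Abelian.factorThruImage c) hV y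
    exact ⟨a, (congrArg (fun φ : N ⟶ push G => φ.app V a) (Abelian.image.fac c)).symm⟩
  · rintro ⟨a, rfl⟩
    exact ⟨(Abelian.factorThruImage c).app V a,
      congrArg (fun φ : N ⟶ push G => φ.app V a) (Abelian.image.fac c)⟩

lemma mem_succ {k : ℕ} {x : Γ(push G, V)} (hx : x ∈ lev G c V (k + 1)) :
    ∃ a ∈ lev G c V k, ∃ b ∈ lev G c V k, x = a + appL (T G) V b := by
  obtain ⟨y, rfl⟩ := hx
  let F := (fil G c k).1
  haveI : F.IsQuasicoherent := (isCoh_fil G c hN k).1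
  haveI : (F ⊞ F).IsQuasicoherent := QCoh.Closure.isQCoh_biprod
  haveI : (Abelian.image (st G (fil G c k).2)).IsQuasicoherent := (isCoh_fil G c hN (k + 1)).1
  obtain ⟨z, rfl⟩ := QCoh.Closure.sections_surjective_of_epi
    (Abelian.factorThruImage (st G (fil G c k).2)) hV y
  refine ⟨_, ⟨(biprod.fst : F ⊞ F ⟶ F).app V z, rfl⟩, _, ⟨(biprod.snd : F ⊞ F ⟶ F).app V z, rfl⟩, ?_⟩
  have e : Abelian.factorThruImage (st G (fil G c k).2) ≫ (fil G c (k + 1)).2 =
      biprod.fst ≫ (fil G c k).2 + biprod.snd ≫ (fil G c k).2 ≫ T G := by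
    show Abelian.factorThruImage _ ≫ Abelian.image.ι _ = _
    rw [Abelian.image.fac]
    exact biprod.desc_eq
  exact congrArg (fun φ : F ⊞ F ⟶ push G => φ.app V z) e

lemma decomp (k : ℕ) : ∀ x ∈ lev G c V (k + 1), ∃ x' ∈ lev G c V k, ∃ a,
    x = x' + (appL (T G) V ^ (k + 1)) (appL c V a) := by
  induction k with
  | zero =>
    intro x hx
    obtain ⟨a, ha, b, hb, rfl⟩ := mem_succ G c hN hV hx
    obtain ⟨b', rfl⟩ := (mem_zero G c hN hV).mp hb
    exact ⟨a, ha, b', by rw [zero_add, pow_one]⟩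
  | succ k ih =>
    intro x hx
    obtain ⟨a, ha, b, hb, rfl⟩ := mem_succ G c hN hV hx
    obtain ⟨b', hb', a', rfl⟩ := ih b hb
    refine ⟨a + appL (T G) V b', add_mem ha (T_mem G c hb'), a', ?_⟩
    rw [map_add, ← add_assoc, pow_succ' _ (k + 1)]
    rfl

variable [IsNoetherian X]

/-- The filtration is eventually strict. -/
theorem stable : ∃ n, ∀ k, n ≤ k → ∀ x ∈ lev G c V (k + 1),
    appL (T G) V x ∈ lev G c V (k + 1) → x ∈ lev G c V k := by
  haveI : IsNoetherianRing Γ(X, V) := IsLocallyNoetherian.component_noetherian ⟨V, hV⟩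
  haveI : Module.Finite Γ(X, V) Γ(N, V) := CohBasics.Closure.finite_sections hN hV
  haveI : _root_.IsNoetherian Γ(X, V) Γ(N, V) := isNoetherian_of_isNoetherianRing_of_finite _ _
  let K : ℕ → Submodule Γ(X, V) Γ(N, V) := fun k =>
    (lev G c V k).comap ((appL (T G) V ^ (k + 1)) ∘ₗ appL c V)
  have hK : Monotone K := monotone_nat_of_le_succ fun k a ha => by
    show (appL (T G) V ^ (k + 1 + 1)) (appL c V a) ∈ lev G c V (k + 1)
    rw [pow_succ' _ (k + 1)]
    exact T_mem G c ha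
  obtain ⟨n, hn⟩ := monotone_stabilizes_iff_noetherian.mpr inferInstance ⟨K, hK⟩
  refine ⟨n, fun k hk x hx hTx => ?_⟩
  obtain ⟨x', hx', a, rfl⟩ := decomp G c hN hV k x hx
  have ha : a ∈ K (k + 1) := by
    show (appL (T G) V ^ (k + 1 + 1)) (appL c V a) ∈ lev G c V (k + 1)
    rw [map_add] at hTx
    rw [pow_succ' _ (k + 1)]
    exact ((Submodule.add_mem_iff_right _ (T_mem G c hx')).mp hTx)
  have hKk : K (k + 1) = K k := (hn (k + 1) (by omega)).symm.trans (hn k hk)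
  rw [hKk] at ha
  exact add_mem hx' ha

end affine

variable [IsNoetherian X]

/-- There is a coherent module generating the direct image. -/
theorem exists_generating (hG : Coh.IsCoh G) :
    ∃ (N : X.Modules) (c : N ⟶ push G) (s : Set X.affineOpens), Coh.IsCoh N ∧ s.Finite ∧
      (∀ x : X, ∃ V ∈ s, x ∈ V.1) ∧ ∀ V ∈ s,
        Submodule.span Γ(𝔸(ULift.{u} (Fin 1); X), (pr X) ⁻¹ᵁ V.1)
          (show Set Γ(G, (pr X) ⁻¹ᵁ V.1) from Set.range (c.app V.1)) = ⊤ := by
  classical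
  haveI := hG.1
  have hX : ∀ x : X, ∃ U : X.Opens, x ∈ U ∧ TopologicalSpace.NoetherianSpace (U : Set X) :=
    fun x => ⟨⊤, trivial, inferInstance⟩
  obtain ⟨s, hs, hcov⟩ := (isCompact_and_isOpen_iff_finite_and_eq_biUnion_affineOpens
    (U := (Set.univ : Set X))).mp ⟨CompactSpace.isCompact_univ, isOpen_univ⟩
  have hfin := fun V : X.affineOpens =>
    (CohBasics.Closure.finite_sections hG (V.2.preimage (pr X))).fg_top
  choose t ht using hfin
  have hsub : ∀ (V : X.affineOpens) (n : Γ(push G, V.1)),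
      ∃ (H : X.Modules) (i : H ⟶ push G), Coh.IsCoh H ∧ ∃ y, i.app V.1 y = n := by
    intro V n
    obtain ⟨H, i, _, hq, hft, y, hy⟩ := Modules.ExtendFT.exists_through_section (F := push G) hX V.2 n
    exact ⟨H, i, ⟨hq, hft⟩, y, hy⟩
  choose H i hH y hy using hsub
  let J := Σ V : s, ↥(t V.1)
  haveI : Finite J := by
    haveI := hs.to_subtype
    exact Finite.instSigma
  obtain ⟨d, ⟨e⟩⟩ := Finite.exists_equiv_fin J
  let A : Fin d → X.Modules := fun k => H (e.symm k).1.1 (e.symm k).2.1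
  let c : (⨁ A) ⟶ push G := biproduct.desc fun k => i (e.symm k).1.1 (e.symm k).2.1
  refine ⟨⨁ A, c, s, CohDelta.IdealMul.DevExt.isCoh_biproduct _ fun k => hH _ _, hs, fun x => ?_,
    fun V hV => ?_⟩
  · have := hcov.le (Set.mem_univ x)
    simpa using this
  · rw [eq_top_iff, ← ht V]
    refine Submodule.span_mono fun n hn => ?_
    let k : Fin d := e ⟨⟨V, hV⟩, ⟨n, hn⟩⟩
    have h0 : e.symm k = ⟨⟨V, hV⟩, ⟨n, hn⟩⟩ := e.symm_apply_apply _
    have h1 : biproduct.ι A k ≫ c = i (e.symm k).1.1 (e.symm k).2.1 := biproduct.ι_desc _ _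
    have h2 : ∃ y', (i (e.symm k).1.1 (e.symm k).2.1).app V.1 y' = n := by
      rw [h0]
      exact ⟨_, hy V n⟩
    obtain ⟨y', hy'⟩ := h2
    exact ⟨(biproduct.ι A k).app V.1 y',
      (congrArg (fun φ : A k ⟶ push G => φ.app V.1 y') h1).trans hy'⟩

/-- Pullback along the line. -/
abbrev pb : X.Modules ⥤ (𝔸(ULift.{u} (Fin 1); X)).Modules := Scheme.Modules.pullback (pr X)

/-- The presentation of a coherent module on the line by pullbacks. -/
theorem exists_presentation (hG : Coh.IsCoh G) :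
    ∃ (A B : X.Modules) (d : pb.obj A ⟶ pb.obj B) (ε : pb.obj B ⟶ G) (w : d ≫ ε = 0),
      Coh.IsCoh A ∧ Coh.IsCoh B ∧ (ShortComplex.mk d ε w).ShortExact := by
  obtain ⟨N, c, s, hN, hs, hcov, hspan⟩ := exists_generating G hG
  haveI := hG.1
  have hst := fun V : X.affineOpens => stable G c hN V.2
  choose nn hnn using hst
  obtain ⟨n, hn⟩ : ∃ n, ∀ V ∈ s, nn V ≤ n := ⟨hs.toFinset.sup nn, fun V hV => Finset.le_sup (hs.mem_toFinset.mpr hV)⟩
  let A := (fil G c n).1
  let B := (fil G c (n + 1)).1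
  let d : pb.obj A ⟶ pb.obj B :=
    pb.map (mulT G c n) - pb.map (incl G c n) ≫ scal (pb.obj B) (co X)
  let ε : pb.obj B ⟶ G := pb.map (fil G c (n + 1)).2 ≫ cu G
  have w : d ≫ ε = 0 := by
    have hnat : pb.map (T G) ≫ cu G = cu G ≫ scal G (co X) :=
      (Scheme.Modules.pullbackPushforwardAdjunction (pr X)).counit.naturality (scal G (co X))
    simp only [d, ε, Preadditive.sub_comp, Category.assoc]
    rw [reassoc_of% (scal_comm (pb.map (fil G c (n + 1)).2) (co X)), ← Functor.map_comp_assoc, ← Functor.map_comp_assoc, mulT_ι, incl_ι,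
      Functor.map_comp_assoc, hnat, scal_comm, sub_self]
  have hA := isCoh_fil G c hN n
  have hB := isCoh_fil G c hN (n + 1)
  haveI := hA.1
  haveI := hB.1
  haveI : (pb.obj A).IsQuasicoherent := QCoh.Pullback.isQCoh_pullback (pr X) A
  haveI : (pb.obj B).IsQuasicoherent := QCoh.Pullback.isQCoh_pullback (pr X) B
  refine ⟨A, B, d, ε, w, hA, hB, ?_⟩
  haveI : (ShortComplex.mk d ε w).X₁.IsQuasicoherent := ‹(pb.obj A).IsQuasicoherent›
  haveI : (ShortComplex.mk d ε w).X₂.IsQuasicoherent := ‹(pb.obj B).IsQuasicoherent›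
  haveI : (ShortComplex.mk d ε w).X₃.IsQuasicoherent := hG.1
  refine QCohChart.Basic.shortExact_of_charts _ fun x => ?_
  obtain ⟨V, hVs, hx⟩ := hcov (pr X x)
  have hV : IsAffineOpen V.1 := V.2
  have hW : IsAffineOpen ((pr X) ⁻¹ᵁ V.1) := hV.preimage (pr X)
  obtain ⟨b, hb⟩ := exists_basis X hV
  letI := ((pr X).appLE V.1 ((pr X) ⁻¹ᵁ V.1) le_rfl).hom.toAlgebra
  letI : Module Γ(X, V.1) Γ(pb.obj A, (pr X) ⁻¹ᵁ V.1) :=
    Module.compHom _ ((pr X).appLE V.1 ((pr X) ⁻¹ᵁ V.1) le_rfl).hom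
  haveI : IsScalarTower Γ(X, V.1) Γ(𝔸(ULift.{u} (Fin 1); X), (pr X) ⁻¹ᵁ V.1) Γ(pb.obj A, (pr X) ⁻¹ᵁ V.1) :=
    IsScalarTower.of_algebraMap_smul fun _ _ => rfl
  letI : Module Γ(X, V.1) Γ(pb.obj B, (pr X) ⁻¹ᵁ V.1) :=
    Module.compHom _ ((pr X).appLE V.1 ((pr X) ⁻¹ᵁ V.1) le_rfl).hom
  haveI : IsScalarTower Γ(X, V.1) Γ(𝔸(ULift.{u} (Fin 1); X), (pr X) ⁻¹ᵁ V.1) Γ(pb.obj B, (pr X) ⁻¹ᵁ V.1) :=
    IsScalarTower.of_algebraMap_smul fun _ _ => rfl
  let fA : Γ(A, V.1) →ₗ[Γ(X, V.1)] Γ(pb.obj A, (pr X) ⁻¹ᵁ V.1) :=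
    { toFun := CechRes.PullSec.mu (pr X) A (le_refl _)
      map_add' := map_add _
      map_smul' := (CechRes.PullSec.mu (pr X) A (le_refl _)).map_smul' }
  let fB : Γ(B, V.1) →ₗ[Γ(X, V.1)] Γ(pb.obj B, (pr X) ⁻¹ᵁ V.1) :=
    { toFun := CechRes.PullSec.mu (pr X) B (le_refl _)
      map_add' := map_add _
      map_smul' := (CechRes.PullSec.mu (pr X) B (le_refl _)).map_smul' }
  have hfA : IsBaseChange Γ(𝔸(ULift.{u} (Fin 1); X), (pr X) ⁻¹ᵁ V.1) fA := CechRes.PullSec.isBaseChange_mu (pr X) A hV hW (le_refl ((pr X) ⁻¹ᵁ V.1))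
  have hfB : IsBaseChange Γ(𝔸(ULift.{u} (Fin 1); X), (pr X) ⁻¹ᵁ V.1) fB := CechRes.PullSec.isBaseChange_mu (pr X) B hV hW (le_refl ((pr X) ⁻¹ᵁ V.1))
  let i := (appL (incl G c n) V.1).toAddMonoidHom
  let u := (appL (mulT G c n) V.1).toAddMonoidHom
  let j : Γ(B, V.1) →+ Γ(G, (pr X) ⁻¹ᵁ V.1) := (appL (fil G c (n + 1)).2 V.1).toAddMonoidHom
  let Fl : ℕ → AddSubgroup Γ(G, (pr X) ⁻¹ᵁ V.1) := fun k => (lev G c V.1 (n + k)).toAddSubgroup
  have hi : Function.Injective i := by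
    haveI : Mono (incl G c n) := mono_of_mono_fac (incl_ι G c n)
    exact QCoh.Closure.sections_injective_of_mono (incl G c n) V.1
  have hd : ∀ a, appL d ((pr X) ⁻¹ᵁ V.1) (CechRes.PullSec.mu (pr X) A (le_refl _) a) =
      CechRes.PullSec.mu (pr X) B (le_refl _) (u a) -
        tW V.1 • CechRes.PullSec.mu (pr X) B (le_refl _) (i a) := fun a => by
    show (pb.map (mulT G c n)).app _ _ - (scal (pb.obj B) (co X)).app _ ((pb.map (incl G c n)).app _ _) = _
    rw [← CechRes.PullSec.mu_natural, ← CechRes.PullSec.mu_natural, scal_app]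
    rfl
  have hε : ∀ y, appL ε ((pr X) ⁻¹ᵁ V.1) (CechRes.PullSec.mu (pr X) B (le_refl _) y) = j y := fun y => by
    show (cu G).app _ ((pb.map (fil G c (n + 1)).2).app _ _) = _
    rw [← CechRes.PullSec.mu_natural]
    exact cu_mu G V.1 _
  refine ⟨(pr X) ⁻¹ᵁ V.1, hW, hx, ?_, ?_, ?_⟩
  · exact LineAlg.injective_d (f₀ := fA) (f₁ := fB) (tW V.1) b hb i u (appL d ((pr X) ⁻¹ᵁ V.1)) hd hi hfA hfB
  · intro z hz
    exact LineAlg.exists_d_eq (f₀ := fA) (f₁ := fB) (tW V.1) b hb i u (appL d ((pr X) ⁻¹ᵁ V.1)) hd Fl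
      (monotone_nat_of_le_succ fun k m hm => mem_succ_of_mem G c hm)
      (fun k m hm => Eq.mp (congrArg (fun z => z ∈ lev G c V.1 (n + k + 1)) (T_app G m)) (T_mem G c hm))
      (fun k m hm htm => hnn V (n + k) (le_trans (hn V hVs) (Nat.le_add_right n k)) m hm
        (Eq.mpr (congrArg (fun z => z ∈ lev G c V.1 (n + k + 1)) (T_app G m)) htm))
      j (fun y => ⟨y, rfl⟩)
      (fun m ⟨a, ha⟩ => ⟨a, (congrArg (fun φ : A ⟶ push G => φ.app V.1 a) (incl_ι G c n)).trans ha⟩)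
      (QCoh.Closure.sections_injective_of_mono (fil G c (n + 1)).2 V.1)
      (fun a => ((congrArg (fun φ : A ⟶ push G => φ.app V.1 a) (mulT_ι G c n)).trans
        (T_app G _)).trans (congrArg (fun m : Γ(G, (pr X) ⁻¹ᵁ V.1) => tW V.1 • m)
          (congrArg (fun φ : A ⟶ push G => φ.app V.1 a) (incl_ι G c n)).symm))
      (appL ε ((pr X) ⁻¹ᵁ V.1)) hε hfB z hz
  · intro m
    have hm : @id Γ(G, (pr X) ⁻¹ᵁ V.1) m ∈
        LinearMap.range (appL ε ((pr X) ⁻¹ᵁ V.1)) := by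
      have h1 : Submodule.span Γ(𝔸(ULift.{u} (Fin 1); X), (pr X) ⁻¹ᵁ V.1)
          (show Set Γ(G, (pr X) ⁻¹ᵁ V.1) from Set.range (c.app V.1)) ≤
            LinearMap.range (appL ε ((pr X) ⁻¹ᵁ V.1)) := by
        refine Submodule.span_le.mpr ?_
        rintro _ ⟨a, rfl⟩
        have hmem : appL c V.1 a ∈ lev G c V.1 (n + 1) := by
          have h0 : ∀ k, appL c V.1 a ∈ lev G c V.1 k := fun k => by
            induction k with
            | zero => exact (mem_zero G c hN hV).mpr ⟨a, rfl⟩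
            | succ k ih => exact mem_succ_of_mem G c ih
          exact h0 _
        obtain ⟨y, hy⟩ := hmem
        exact ⟨_, (hε y).trans hy⟩
      rw [hspan V hVs] at h1
      exact h1 Submodule.mem_top
    exact hm

end

end Groth.Agent.Lib.Devissage.LineFil
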