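import Groth.Agent.Lib.Devissage.LineFil
import Groth.Agent.Lib.Devissage.Localization
import Mathlib.Algebra.Homology.ShortComplex.SnakeLemma

/-!
# Homotopy invariance of `K₀` of coherent modules for the affine line

The inverse of the pullback sends `G` to `[p_* coker t] - [p_* ker t]`.
-/

set_option autoImplicit false
set_option linter.style.haveILetI false
set_option linter.unusedSectionVars false

universe u

open CategoryTheory CategoryTheory.Limits AlgebraicGeometry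

namespace Groth.Agent.Lib.Devissage.LineInvariance

open Groth.Agent.Lib CurveBundle.EndAlg LineTorsion LineFil

noncomputable section

variable {X : Scheme.{u}} [IsNoetherian X]

instance isLocallyNoetherian_line : IsLocallyNoetherian 𝔸(ULift.{u} (Fin 1); X) :=
  LocallyOfFiniteType.isLocallyNoetherian (pr X)

local notation "cohP" => (fun M : Scheme.Modules _ => Coh.IsCoh M)

/-- Coherent and killed by the coordinate. -/
def Killed (M : (𝔸(ULift.{u} (Fin 1); X)).Modules) : Prop := Coh.IsCoh M ∧ scal M (co X) = 0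

/-- The class of the direct image. -/
def φ (M : (𝔸(ULift.{u} (Fin 1); X)).Modules) : KZero.K0sub (fun M : X.Modules => Coh.IsCoh M) :=
  KZero.clSub (fun M : X.Modules => Coh.IsCoh M) (push M)

lemma killed_kernel {A B : (𝔸(ULift.{u} (Fin 1); X)).Modules} (f : A ⟶ B) (hA : Killed A)
    (hB : Coh.IsCoh B) : Killed (kernel f) := by
  refine ⟨CohBasics.Closure.isCoh_kernel f hA.1 hB.1, ?_⟩
  rw [← cancel_mono (kernel.ι f), scal_comm, hA.2, comp_zero, zero_comp]

lemma killed_cokernel {A B : (𝔸(ULift.{u} (Fin 1); X)).Modules} (f : A ⟶ B) (hA : Coh.IsCoh A)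
    (hB : Killed B) : Killed (cokernel f) := by
  refine ⟨CohBasics.Closure.isCoh_cokernel f hA.1 hB.1, ?_⟩
  rw [← cancel_epi (cokernel.π f), ← scal_comm, hB.2, zero_comp, comp_zero]

/-- Direct image along the line is exact on quasi-coherent modules. -/
lemma shortExact_push {S : ShortComplex (𝔸(ULift.{u} (Fin 1); X)).Modules} (hS : S.ShortExact)
    [S.X₁.IsQuasicoherent] [S.X₂.IsQuasicoherent] [S.X₃.IsQuasicoherent] :
    (S.map (Scheme.Modules.pushforward (pr X))).ShortExact := by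
  haveI := hS.mono_f
  haveI := hS.epi_g
  haveI : (S.map (Scheme.Modules.pushforward (pr X))).X₁.IsQuasicoherent :=
    QCoh.Pushforward.isQCoh_pushforward (pr X) (M := S.X₁)
  haveI : (S.map (Scheme.Modules.pushforward (pr X))).X₂.IsQuasicoherent :=
    QCoh.Pushforward.isQCoh_pushforward (pr X) (M := S.X₂)
  haveI : (S.map (Scheme.Modules.pushforward (pr X))).X₃.IsQuasicoherent :=
    QCoh.Pushforward.isQCoh_pushforward (pr X) (M := S.X₃)
  refine QCohChart.Basic.shortExact_of_charts _ fun x => ?_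
  obtain ⟨V, hV, hx, -⟩ := exists_isAffineOpen_mem_and_subset (X := X) (x := x) (U := ⊤) trivial
  exact ⟨V, hV, hx, QCoh.Closure.sections_injective_of_mono S.f ((pr X) ⁻¹ᵁ V),
    QCoh.Closure.sections_exact hS.exact ((pr X) ⁻¹ᵁ V),
    QCoh.Closure.sections_surjective_of_epi S.g (hV.preimage (pr X))⟩

lemma φ_add {S : ShortComplex (𝔸(ULift.{u} (Fin 1); X)).Modules} (hS : S.ShortExact)
    (h₁ : Killed S.X₁) (h₂ : Killed S.X₂) (h₃ : Killed S.X₃) : φ S.X₂ = φ S.X₁ + φ S.X₃ :=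
  haveI := h₁.1.1
  haveI := h₂.1.1
  haveI := h₃.1.1
  KRes.KSub.rel (P := fun M : X.Modules => Coh.IsCoh M) (shortExact_push hS)
    (isCoh_push_of_kill _ h₁.1 h₁.2) (isCoh_push_of_kill _ h₂.1 h₂.2) (isCoh_push_of_kill _ h₃.1 h₃.2)

lemma φ_zero {Z : (𝔸(ULift.{u} (Fin 1); X)).Modules} (hZ : IsZero Z) (h : Killed Z) : φ Z = 0 :=
  KRes.KSub.clSub_zero ((Scheme.Modules.pushforward (pr X)).map_isZero hZ) (isCoh_push_of_kill _ h.1 h.2)

/-- The class of a kernel. -/
abbrev κ {A B : (𝔸(ULift.{u} (Fin 1); X)).Modules} (f : A ⟶ B) :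
    KZero.K0sub (fun M : X.Modules => Coh.IsCoh M) := φ (kernel f)

lemma κ_of_mono {A B : (𝔸(ULift.{u} (Fin 1); X)).Modules} (f : A ⟶ B) [Mono f] (hA : Killed A)
    (hB : Coh.IsCoh B) : κ f = 0 :=
  φ_zero ((isZero_zero _).of_iso (kernel.ofMono f)) (killed_kernel f hA hB)

lemma φ_eq_of_exact {A B C : (𝔸(ULift.{u} (Fin 1); X)).Modules} (f : A ⟶ B) (g : B ⟶ C)
    (w : f ≫ g = 0) (hS : (ShortComplex.mk f g w).Exact) (hA : Killed A) (hB : Killed B)
    (hC : Coh.IsCoh C) : φ A = κ f + κ g := by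
  haveI : Epi (kernel.lift g f w) := hS.epi_kernelLift
  have w' : kernel.ι f ≫ kernel.lift g f w = 0 := by
    rw [← cancel_mono (kernel.ι g), Category.assoc, kernel.lift_ι, kernel.condition, zero_comp]
  exact φ_add (S := ShortComplex.mk (kernel.ι f) (kernel.lift g f w) w')
    (ShortComplex.ShortExact.mk' (ShortComplex.exact_of_f_is_kernel _
      (isKernelOfComp (kernel.ι g) f (kernelIsKernel f) w' (kernel.lift_ι _ _ _))) inferInstance inferInstance)
    (killed_kernel f hA hB.1) hA (killed_kernel g hB hC)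

lemma killed_ker_scal {G : (𝔸(ULift.{u} (Fin 1); X)).Modules} (hG : Coh.IsCoh G) :
    Killed (kernel (scal G (co X))) := by
  refine ⟨CohBasics.Closure.isCoh_kernel _ hG hG.1, ?_⟩
  rw [← cancel_mono (kernel.ι (scal G (co X))), scal_comm, kernel.condition, zero_comp]

lemma killed_coker_scal {G : (𝔸(ULift.{u} (Fin 1); X)).Modules} (hG : Coh.IsCoh G) :
    Killed (cokernel (scal G (co X))) := by
  refine ⟨CohBasics.Closure.isCoh_cokernel _ hG.1 hG, ?_⟩
  rw [← cancel_epi (cokernel.π (scal G (co X))), ← scal_comm, cokernel.condition, comp_zero]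

/-- The specialisation. -/
def sp (G : (𝔸(ULift.{u} (Fin 1); X)).Modules) : KZero.K0sub (fun M : X.Modules => Coh.IsCoh M) :=
  φ (cokernel (scal G (co X))) - φ (kernel (scal G (co X)))

/-- The snake. -/
def snake {S : ShortComplex (𝔸(ULift.{u} (Fin 1); X)).Modules} (hS : S.ShortExact) :
    ShortComplex.SnakeInput (𝔸(ULift.{u} (Fin 1); X)).Modules :=
  let v : S ⟶ S := ⟨scal S.X₁ (co X), scal S.X₂ (co X), scal S.X₃ (co X), scal_comm _ _, scal_comm _ _⟩
  { L₀ := ShortComplex.mk (kernel.map v.τ₁ v.τ₂ S.f S.f (scal_comm _ _))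
      (kernel.map v.τ₂ v.τ₃ S.g S.g (scal_comm _ _))
      (by rw [← cancel_mono (kernel.ι _)]; simp [kernel.map])
    L₁ := S
    L₂ := S
    L₃ := ShortComplex.mk (cokernel.map v.τ₁ v.τ₂ S.f S.f (scal_comm _ _))
      (cokernel.map v.τ₂ v.τ₃ S.g S.g (scal_comm _ _))
      (by rw [← cancel_epi (cokernel.π _)]; simp [cokernel.map])
    v₀₁ := ⟨kernel.ι _, kernel.ι _, kernel.ι _, (by simp [kernel.map]), (by simp [kernel.map])⟩
    v₁₂ := v
    v₂₃ := ⟨cokernel.π _, cokernel.π _, cokernel.π _, (by simp [cokernel.map]), (by simp [cokernel.map])⟩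
    w₀₂ := by ext <;> simp [v]
    w₁₃ := by ext <;> simp [v]
    h₀ := by
      apply ShortComplex.isLimitOfIsLimitπ <;>
        exact (KernelFork.isLimitMapConeEquiv _ _).symm (kernelIsKernel _)
    h₃ := by
      apply ShortComplex.isColimitOfIsColimitπ <;>
        exact (CokernelCofork.isColimitMapCoconeEquiv _ _).symm (cokernelIsCokernel _)
    L₁_exact := hS.exact
    epi_L₁_g := hS.epi_g
    L₂_exact := hS.exact
    mono_L₂_f := hS.mono_f }

lemma sp_add (S : ShortComplex (𝔸(ULift.{u} (Fin 1); X)).Modules) (hS : S.ShortExact)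
    (h₁ : Coh.IsCoh S.X₁) (h₂ : Coh.IsCoh S.X₂) (h₃ : Coh.IsCoh S.X₃) :
    sp S.X₂ = sp S.X₁ + sp S.X₃ := by
  let D := snake hS
  have k₁ : Killed D.L₀.X₁ := killed_ker_scal h₁
  have k₂ : Killed D.L₀.X₂ := killed_ker_scal h₂
  have k₃ : Killed D.L₀.X₃ := killed_ker_scal h₃
  have c₁ : Killed D.L₃.X₁ := killed_coker_scal h₁
  have c₂ : Killed D.L₃.X₂ := killed_coker_scal h₂
  have c₃ : Killed D.L₃.X₃ := killed_coker_scal h₃
  haveI : Mono S.f := hS.mono_f
  haveI : Epi S.g := hS.epi_g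
  haveI : Mono D.L₁.f := hS.mono_f
  haveI : Mono D.L₀.f := by
    haveI : Mono D.v₀₁.τ₁ := inferInstanceAs (Mono (kernel.ι _))
    haveI : Mono (D.L₀.f ≫ D.v₀₁.τ₂) := by
      rw [← D.v₀₁.comm₁₂]
      exact mono_comp _ _
    exact mono_of_mono D.L₀.f D.v₀₁.τ₂
  haveI : Epi D.L₃.g := by
    haveI : Epi D.L₂.g := hS.epi_g
    haveI : Epi D.v₂₃.τ₃ := inferInstanceAs (Epi (cokernel.π _))
    haveI : Epi (D.v₂₃.τ₂ ≫ D.L₃.g) := by
      rw [D.v₂₃.comm₂₃]
      exact epi_comp _ _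
    exact epi_of_epi D.v₂₃.τ₂ D.L₃.g
  have e1 := φ_eq_of_exact D.L₀.f D.L₀.g D.L₀.zero D.L₀_exact k₁ k₂ k₃.1
  rw [κ_of_mono D.L₀.f k₁ k₂.1, zero_add] at e1
  have e2 := φ_eq_of_exact D.L₀.g D.δ D.L₀_g_δ D.L₁'_exact k₂ k₃ c₁.1
  have e3 := φ_eq_of_exact D.δ D.L₃.f D.δ_L₃_f D.L₂'_exact k₃ c₁ c₂.1
  have e4 := φ_eq_of_exact D.L₃.f D.L₃.g D.L₃.zero D.L₃_exact c₁ c₂ c₃.1
  have e5 := φ_add (S := ShortComplex.mk (kernel.ι D.L₃.g) D.L₃.g (kernel.condition _))
    (ShortComplex.ShortExact.mk' (ShortComplex.exact_of_f_is_kernel _ (kernelIsKernel _)) inferInstance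
      inferInstance) (killed_kernel _ c₂ c₃.1) c₂ c₃
  dsimp only at e5
  show φ D.L₃.X₂ - φ D.L₀.X₂ = φ D.L₃.X₁ - φ D.L₀.X₁ + (φ D.L₃.X₃ - φ D.L₀.X₃)
  rw [e1, e2, e3, e4, e5]
  simp only [κ]
  abel

/-- The specialisation of a pullback. -/
lemma sp_pullback {M : X.Modules} (hM : Coh.IsCoh M) :
    sp (pb.obj M) = KZero.clSub (fun M : X.Modules => Coh.IsCoh M) M := by
  haveI := hM.1
  let P := pb.obj M
  have hP : Coh.IsCoh P := Cyc.FP.Stalk.isCoh_pullback (pr X) hM
  haveI := hP.1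
  let π := cokernel.π (scal P (co X))
  let a : M ⟶ push (cokernel (scal P (co X))) :=
    (Scheme.Modules.pullbackPushforwardAdjunction (pr X)).unit.app M ≫
      (Scheme.Modules.pushforward (pr X)).map π
  have hC := killed_coker_scal hP
  haveI := hC.1.1
  haveI : (push (cokernel (scal P (co X)))).IsQuasicoherent :=
    QCoh.Pushforward.isQCoh_pushforward (pr X) (M := cokernel (scal P (co X)))
  have hbase : ∀ V : X.Opens, IsAffineOpen V →
      Function.Injective ((scal P (co X)).app ((pr X) ⁻¹ᵁ V)) ∧ Function.Bijective (a.app V) := by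
    intro V hV
    have hW : IsAffineOpen ((pr X) ⁻¹ᵁ V) := hV.preimage (pr X)
    obtain ⟨b, hb⟩ := exists_basis X hV
    letI := ((pr X).appLE V ((pr X) ⁻¹ᵁ V) le_rfl).hom.toAlgebra
    letI : Module Γ(X, V) Γ(P, (pr X) ⁻¹ᵁ V) :=
      Module.compHom _ ((pr X).appLE V ((pr X) ⁻¹ᵁ V) le_rfl).hom
    haveI : IsScalarTower Γ(X, V) Γ(𝔸(ULift.{u} (Fin 1); X), (pr X) ⁻¹ᵁ V) Γ(P, (pr X) ⁻¹ᵁ V) :=
      IsScalarTower.of_algebraMap_smul fun _ _ => rfl
    let f : Γ(M, V) →ₗ[Γ(X, V)] Γ(P, (pr X) ⁻¹ᵁ V) :=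
      { toFun := CechRes.PullSec.mu (pr X) M (le_refl _)
        map_add' := map_add _
        map_smul' := (CechRes.PullSec.mu (pr X) M (le_refl _)).map_smul' }
    have hf : IsBaseChange Γ(𝔸(ULift.{u} (Fin 1); X), (pr X) ⁻¹ᵁ V) f :=
      CechRes.PullSec.isBaseChange_mu (pr X) M hV hW (le_refl _)
    have hmu : ∀ m, a.app V m = π.app ((pr X) ⁻¹ᵁ V) (f m) := fun m => by
      show π.app _ (((Scheme.Modules.pullbackPushforwardAdjunction (pr X)).unit.app M).app V m) = _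
      refine congrArg (π.app ((pr X) ⁻¹ᵁ V)) ?_
      show _ = P.presheaf.map (homOfLE (le_refl ((pr X) ⁻¹ᵁ V))).op
        (((Scheme.Modules.pullbackPushforwardAdjunction (pr X)).unit.app M).app V m)
      rw [show (homOfLE (le_refl ((pr X) ⁻¹ᵁ V))).op = 𝟙 _ from rfl, CategoryTheory.Functor.map_id]
      rfl
    have hinj : Function.Injective ((scal P (co X)).app ((pr X) ⁻¹ᵁ V)) :=
      LineTorsion.injective_smul (tW V) b hb hf
    refine ⟨hinj, (injective_iff_map_eq_zero (a.app V).hom).mpr fun m hm => ?_, fun y => ?_⟩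
    · haveI : Mono (scal P (co X)) := QCohChart.Basic.mono_of_charts _ fun x => by
        obtain ⟨V', hV', hx', -⟩ := exists_isAffineOpen_mem_and_subset (X := X) (x := pr X x) (U := ⊤) trivial
        obtain ⟨b', hb'⟩ := exists_basis X hV'
        letI := ((pr X).appLE V' ((pr X) ⁻¹ᵁ V') le_rfl).hom.toAlgebra
        letI : Module Γ(X, V') Γ(P, (pr X) ⁻¹ᵁ V') :=
          Module.compHom _ ((pr X).appLE V' ((pr X) ⁻¹ᵁ V') le_rfl).hom
        haveI : IsScalarTower Γ(X, V') Γ(𝔸(ULift.{u} (Fin 1); X), (pr X) ⁻¹ᵁ V') Γ(P, (pr X) ⁻¹ᵁ V') :=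
          IsScalarTower.of_algebraMap_smul fun _ _ => rfl
        exact ⟨(pr X) ⁻¹ᵁ V', hV'.preimage (pr X), hx', LineTorsion.injective_smul (tW V') b' hb'
          (CechRes.PullSec.isBaseChange_mu (pr X) M hV' (hV'.preimage (pr X)) (le_refl _))⟩
      haveI : Mono (ShortComplex.mk (scal P (co X)) π (cokernel.condition _)).f := ‹_›
      obtain ⟨y, hy⟩ := QCoh.Closure.sections_exact
        (S := ShortComplex.mk (scal P (co X)) π (cokernel.condition _))
        (ShortComplex.exact_cokernel _) ((pr X) ⁻¹ᵁ V) (f m) ((hmu m).symm.trans hm)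
      exact LineAlg.eq_zero_of_eq_smul (tW V) b hb f hf (hy.symm.trans (scal_app P (co X) _ y))
    · obtain ⟨z, hz⟩ := QCoh.Closure.sections_surjective_of_epi π hW y
      obtain ⟨m, w, rfl⟩ := LineAlg.exists_decomp (tW V) b hb f hf z
      refine ⟨m, (hmu m).trans ?_⟩
      have h0 : π.app ((pr X) ⁻¹ᵁ V) (tW V • w) = 0 :=
        (congrArg (π.app ((pr X) ⁻¹ᵁ V)) (scal_app P (co X) _ w).symm).trans
          (congrArg (fun k : P ⟶ cokernel (scal P (co X)) => k.app ((pr X) ⁻¹ᵁ V) w) (cokernel.condition _))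
      rw [← hz, map_add, h0, add_zero]
  haveI : Mono (scal P (co X)) := QCohChart.Basic.mono_of_charts _ fun x => by
    obtain ⟨V, hV, hx, -⟩ := exists_isAffineOpen_mem_and_subset (X := X) (x := pr X x) (U := ⊤) trivial
    exact ⟨(pr X) ⁻¹ᵁ V, hV.preimage (pr X), hx, (hbase V hV).1⟩
  haveI : Mono a := QCohChart.Basic.mono_of_charts _ fun x => by
    obtain ⟨V, hV, hx, -⟩ := exists_isAffineOpen_mem_and_subset (X := X) (x := x) (U := ⊤) trivial
    exact ⟨V, hV, hx, (hbase V hV).2.1⟩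
  haveI : Epi a := QCohChart.Basic.epi_of_charts _ fun x => by
    obtain ⟨V, hV, hx, -⟩ := exists_isAffineOpen_mem_and_subset (X := X) (x := x) (U := ⊤) trivial
    exact ⟨V, hV, hx, (hbase V hV).2.2⟩
  haveI : IsIso a := isIso_of_mono_of_epi a
  have h0 : φ (kernel (scal P (co X))) = 0 :=
    φ_zero ((isZero_zero _).of_iso (kernel.ofMono _)) (killed_ker_scal hP)
  show φ _ - φ _ = _
  rw [h0, sub_zero]
  refine (Localization.clSub_congr (asIso a) hM (isCoh_push_of_kill _ hC.1 hC.2) ?_).symm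
  exact CohBasics.Closure.isCoh_cokernel _ hM.1 hM

/-- Pullback to the affine line is bijective on `K₀`. -/
theorem bijective_line [(pb (X := X)).Additive] [PreservesFiniteLimits (pb (X := X))]
    [PreservesFiniteColimits (pb (X := X))]
    (hf : ∀ M : X.Modules, Coh.IsCoh M → Coh.IsCoh (pb.obj M)) :
    Function.Bijective (SGA6.mapSub (pb (X := X)) (fun M : X.Modules => Coh.IsCoh M)
      (fun M : (𝔸(ULift.{u} (Fin 1); X)).Modules => Coh.IsCoh M) hf) := by
  let r := SGA6.mapSub (pb (X := X)) (fun M : X.Modules => Coh.IsCoh M)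
    (fun M : (𝔸(ULift.{u} (Fin 1); X)).Modules => Coh.IsCoh M) hf
  let ψ := KRes.KSub.lift (P := fun M : (𝔸(ULift.{u} (Fin 1); X)).Modules => Coh.IsCoh M) sp sp_add
  have hl : ψ.comp r = AddMonoidHom.id _ := KRes.KSub.hom_ext fun M hM => by
    show ψ (r _) = _
    rw [KRes.KSub.mapSub_cl _ hf hM, KRes.KSub.lift_cl _ _ (hf M hM), sp_pullback hM]
    rfl
  refine ⟨Function.LeftInverse.injective (g := ψ) (DFunLike.congr_fun hl), ?_⟩
  show Function.Surjective r
  rw [← AddMonoidHom.range_eq_top]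
  refine KRes.KSub.closure_eq_top fun G hG => ?_
  obtain ⟨A, B, d, ε, w, hA, hB, hS⟩ := exists_presentation G hG
  have h := KRes.KSub.rel (P := fun M : (𝔸(ULift.{u} (Fin 1); X)).Modules => Coh.IsCoh M) hS
    (hf A hA) (hf B hB) hG
  dsimp only at h
  refine ⟨KZero.clSub _ B - KZero.clSub _ A, ?_⟩
  rw [map_sub, KRes.KSub.mapSub_cl _ hf hB, KRes.KSub.mapSub_cl _ hf hA]
  exact sub_eq_iff_eq_add'.mpr h

end

end Groth.Agent.Lib.Devissage.LineInvariance
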