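import Groth.Agent.Lib.CechRes.PullSec
import Groth.Agent.Lib.QCohChart.Basic
import Groth.Agent.Lib.CurveBundle.EndAlg
import Groth.Agent.Lib.Cyc.FP.Stalk
import Groth.Agent.Lib.CohBasics.Closure
import Groth.Agent.Lib.QCoh.Pushforward
import Groth.Agent.Lib.KRes.KSub
import Mathlib.AlgebraicGeometry.AffineSpace
import Mathlib.LinearAlgebra.TensorProduct.Basis
import Mathlib.Algebra.MvPolynomial.Equiv
import Mathlib.Algebra.Polynomial.Basis

/-!
# Modules on the affine line killed by the coordinate vanish in `K₀`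

For a coherent module `G` on `𝔸¹_X` killed by the coordinate `t` there is an exact sequence
`0 → p^* p_* G → p^* p_* G → G → 0`, the first map being multiplication by `t`.
-/

set_option autoImplicit false
set_option linter.style.haveILetI false
set_option linter.unusedSimpArgs false

universe u

open CategoryTheory CategoryTheory.Limits AlgebraicGeometry TensorProduct

namespace Groth.Agent.Lib.Devissage.LineTorsion

open Groth.Agent.Lib CurveBundle.EndAlg

section algebra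

variable {R S : Type u} [CommRing R] [CommRing S] [Algebra R S] (t : S) (b : Module.Basis ℕ R S)
  (hb : ∀ k, b k = t ^ k) {N P : Type u} [AddCommGroup N] [Module R N]
  [AddCommGroup P] [Module R P] [Module S P] [IsScalarTower R S P]

include hb in
theorem exists_decomp (s : S) : ∃ r : R, ∃ s' : S, s = algebraMap R S r + t * s' := by
  rw [← b.linearCombination_repr s]
  induction b.repr s using Finsupp.induction_linear with
  | zero => exact ⟨0, 0, by simp⟩
  | add f g hf hg =>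
    obtain ⟨r₁, s₁, e₁⟩ := hf
    obtain ⟨r₂, s₂, e₂⟩ := hg
    exact ⟨r₁ + r₂, s₁ + s₂, by rw [map_add, e₁, e₂, map_add]; ring⟩
  | single k r =>
    rw [Finsupp.linearCombination_single, hb]
    rcases k with _ | k
    · exact ⟨r, 0, by simp [Algebra.smul_def]⟩
    · exact ⟨0, r • t ^ k, by simp [Algebra.smul_def, pow_succ]; ring⟩

include hb in
theorem injective_smul {f : N →ₗ[R] P} (hf : IsBaseChange S f) :
    Function.Injective (fun x : P => t • x) := by
  classical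
  let Φ : S ⊗[R] N ≃ₗ[R] ℕ →₀ N := TensorProduct.equivFinsuppOfBasisLeft b
  have h : ∀ c : ℕ →₀ N, t • Φ.symm c = Φ.symm (Finsupp.mapDomain Nat.succ c) := by
    intro c
    induction c using Finsupp.induction_linear with
    | zero => simp
    | add f g hf hg => rw [map_add, smul_add, hf, hg, Finsupp.mapDomain_add, map_add]
    | single k n =>
      rw [Finsupp.mapDomain_single]
      simp only [Φ, TensorProduct.equivFinsuppOfBasisLeft_symm_apply, TensorProduct.zero_tmul,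
        TensorProduct.tmul_zero, Finsupp.sum_single_index]
      rw [TensorProduct.smul_tmul', hb, hb, smul_eq_mul, pow_succ']
  intro x y hxy
  obtain ⟨x, rfl⟩ := hf.equiv.surjective x
  obtain ⟨y, rfl⟩ := hf.equiv.surjective y
  obtain ⟨c, rfl⟩ := Φ.symm.surjective x
  obtain ⟨d, rfl⟩ := Φ.symm.surjective y
  have h2 : t • Φ.symm c = t • Φ.symm d := by
    refine hf.equiv.injective ?_
    rw [map_smul, map_smul]
    exact hxy
  rw [h, h] at h2
  rw [Finsupp.mapDomain_injective Nat.succ_injective (Φ.symm.injective h2)]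

variable [Module S N] [IsScalarTower R S N]

include hb in
theorem exists_smul_eq_of_map_eq_zero (htN : ∀ n : N, t • n = 0) {f : N →ₗ[R] P}
    (hf : IsBaseChange S f) (ε : P →ₗ[S] N) (hε : ∀ n, ε (f n) = n) (x : P) (hx : ε x = 0) :
    ∃ y, t • y = x := by
  suffices h : ∀ x, ∃ y, x = f (ε x) + t • y by
    obtain ⟨y, e⟩ := h x
    refine ⟨y, ?_⟩
    rw [hx, map_zero, zero_add] at e
    exact e.symm
  intro x
  induction x using hf.inductionOn with
  | zero => exact ⟨0, by simp⟩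
  | tmul n => exact ⟨0, by simp [hε]⟩
  | smul s y ih =>
    obtain ⟨z, e⟩ := ih
    obtain ⟨r, s', rfl⟩ := exists_decomp t b hb s
    refine ⟨(algebraMap R S r + t * s') • z + s' • f (ε y), ?_⟩
    have h1 : f (ε ((algebraMap R S r + t * s') • y)) = algebraMap R S r • f (ε y) := by
      rw [map_smul, add_smul, mul_smul, htN, add_zero, algebraMap_smul, algebraMap_smul, map_smul]
    rw [h1]
    conv_lhs => rw [e]
    module
  | add x y hx hy =>
    obtain ⟨x', ex⟩ := hx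
    obtain ⟨y', ey⟩ := hy
    refine ⟨x' + y', ?_⟩
    rw [map_add, map_add, smul_add]
    conv_lhs => rw [ex, ey]
    abel

end algebra

variable (X : Scheme.{u})

/-- The structure map of the line. -/
noncomputable abbrev pr : 𝔸(ULift.{u} (Fin 1); X) ⟶ X := 𝔸(ULift.{u} (Fin 1); X) ↘ X

/-- The coordinate. -/
noncomputable abbrev co : Γ(𝔸(ULift.{u} (Fin 1); X), ⊤) :=
  AffineSpace.coord X (ULift.up (0 : Fin 1))

/-- The coordinate ring of the line over an affine open is a polynomial ring. -/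
theorem exists_basis {V : X.Opens} (hV : IsAffineOpen V) :
    letI := ((pr X).appLE V ((pr X) ⁻¹ᵁ V) le_rfl).hom.toAlgebra
    ∃ b : Module.Basis ℕ Γ(X, V) Γ(𝔸(ULift.{u} (Fin 1); X), (pr X) ⁻¹ᵁ V), ∀ k, b k =
      ((𝔸(ULift.{u} (Fin 1); X)).presheaf.map (homOfLE (le_top (a := (pr X) ⁻¹ᵁ V))).op (co X)) ^ k := by
  letI := ((pr X).appLE V ((pr X) ⁻¹ᵁ V) le_rfl).hom.toAlgebra
  haveI : IsAffine (V : Scheme.{u}) := hV
  let W := (pr X) ⁻¹ᵁ V
  let AV : Scheme.{u} := 𝔸(ULift.{u} (Fin 1); (V : Scheme.{u}))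
  let pV : AV ⟶ V := 𝔸(ULift.{u} (Fin 1); (V : Scheme.{u})) ↘ (V : Scheme.{u})
  let q : AV ⟶ 𝔸(ULift.{u} (Fin 1); X) := AffineSpace.map (ULift.{u} (Fin 1)) V.ι
  have hpb := AffineSpace.isPullback_map (n := ULift.{u} (Fin 1)) V.ι
  have hpb' := (isPullback_morphismRestrict (pr X) V)
  let e : AV ≅ (W : Scheme.{u}) := hpb.flip.isoIsPullback _ _ hpb'
  have he : e.hom ≫ W.ι = q := hpb.flip.isoIsPullback_hom_snd _ _ hpb'
  haveI : IsOpenImmersion q := he ▸ inferInstance
  have hrange : q.opensRange = W := by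
    rw [← TopologicalSpace.Opens.coe_inj]
    show Set.range q = (W : Set 𝔸(ULift.{u} (Fin 1); X))
    rw [← he, Scheme.Hom.comp_base, TopCat.coe_comp, Set.range_comp,
      Set.range_eq_univ.mpr (show Function.Surjective e.hom from e.hom.homeomorph.surjective), Set.image_univ, Scheme.Opens.range_ι]
  have hle : (⊤ : AV.Opens) ≤ q ⁻¹ᵁ W := fun x _ => by
    show q x ∈ W
    rw [← hrange]
    exact ⟨x, rfl⟩
  let θ : Γ(𝔸(ULift.{u} (Fin 1); X), W) ⟶ Γ(AV, ⊤) := q.appLE W ⊤ hle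
  haveI : IsIso θ := by
    haveI : IsIso (q.app W) := q.isIso_app W (le_of_eq hrange.symm)
    have : q ⁻¹ᵁ W = ⊤ := top_le_iff.mp hle
    show IsIso (q.app W ≫ AV.presheaf.map (homOfLE hle).op)
    haveI : IsIso (homOfLE hle) := ⟨homOfLE (le_of_eq this), rfl, rfl⟩
    infer_instance
  let ι₀ : Γ(X, V) ⟶ Γ((V : Scheme.{u}), ⊤) := V.ι.appLE V ⊤ (fun x _ => x.2)
  haveI : IsIso ι₀ := by
    haveI : IsIso (V.ι.app V) := V.ι.isIso_app V (le_of_eq V.opensRange_ι.symm)
    have : V.ι ⁻¹ᵁ V = ⊤ := by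
      rw [eq_top_iff]
      exact fun x _ => x.2
    show IsIso (V.ι.app V ≫ (V : Scheme.{u}).presheaf.map _)
    haveI : IsIso (homOfLE (X := (V : Scheme.{u}).Opens) (show ⊤ ≤ V.ι ⁻¹ᵁ V from fun x _ => x.2)) :=
      ⟨homOfLE (le_of_eq this), rfl, rfl⟩
    infer_instance
  have hψ : (pr X).appLE V W le_rfl ≫ θ = ι₀ ≫ pV.appTop := by
    have h1 : q ≫ (pr X) = pV ≫ V.ι := hpb.w
    have := Scheme.Hom.appLE_comp_appLE q (pr X) V W ⊤ le_rfl hle
    refine this.trans ?_
    simp only [h1]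
    rw [← Scheme.Hom.appLE_comp_appLE pV V.ι V ⊤ ⊤ (fun x _ => x.2) le_rfl]
    exact congrArg (ι₀ ≫ ·) (Scheme.Hom.appLE_eq_app (f := pV) (U := ⊤))
  let t : Γ(𝔸(ULift.{u} (Fin 1); X), W) := (𝔸(ULift.{u} (Fin 1); X)).presheaf.map (homOfLE (le_top (a := W))).op (co X)
  have ht : θ t = AffineSpace.coord (V : Scheme.{u}) (ULift.up (0 : Fin 1)) := by
    rw [← AffineSpace.map_appTop_coord V.ι (ULift.up (0 : Fin 1))]
    refine (ConcreteCategory.comp_apply _ _ _).symm.trans ?_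
    rw [Scheme.Hom.map_appLE q hle (homOfLE (le_top (a := W))).op]
    exact ConcreteCategory.congr_hom (Scheme.Hom.appLE_eq_app (f := q) (U := ⊤)) _
  have hbij : Function.Bijective
      (MvPolynomial.eval₂Hom pV.appTop.hom (AffineSpace.coord (n := ULift.{u} (Fin 1)) (V : Scheme.{u}))) := by
    have h := AffineSpace.isoOfIsAffine_hom_appTop (n := ULift.{u} (Fin 1)) (S := (V : Scheme.{u}))
    haveI : IsIso ((Scheme.ΓSpecIso (.of (MvPolynomial (ULift.{u} (Fin 1)) Γ((V : Scheme.{u}), ⊤)))).hom ≫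
        CommRingCat.ofHom (MvPolynomial.eval₂Hom pV.appTop.hom
          (AffineSpace.coord (n := ULift.{u} (Fin 1)) (V : Scheme.{u})))) := by
      rw [← h]
      exact inferInstanceAs (IsIso ((AffineSpace.isoOfIsAffine (ULift.{u} (Fin 1)) (V : Scheme.{u})).hom.app ⊤))
    haveI := IsIso.of_isIso_comp_left (Scheme.ΓSpecIso (.of (MvPolynomial (ULift.{u} (Fin 1)) Γ((V : Scheme.{u}), ⊤)))).hom
      (CommRingCat.ofHom (MvPolynomial.eval₂Hom pV.appTop.hom
          (AffineSpace.coord (n := ULift.{u} (Fin 1)) (V : Scheme.{u}))))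
    exact ConcreteCategory.bijective_of_isIso (CommRingCat.ofHom (MvPolynomial.eval₂Hom pV.appTop.hom
          (AffineSpace.coord (n := ULift.{u} (Fin 1)) (V : Scheme.{u}))))
  let ev : MvPolynomial (ULift.{u} (Fin 1)) Γ(X, V) →ₐ[Γ(X, V)] Γ(𝔸(ULift.{u} (Fin 1); X), W) := MvPolynomial.aeval fun _ => t
  have hev : Function.Bijective ev := by
    have hcomp : θ.hom.comp ev.toRingHom =
        (MvPolynomial.eval₂Hom pV.appTop.hom (AffineSpace.coord (n := ULift.{u} (Fin 1)) (V : Scheme.{u}))).comp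
          (MvPolynomial.map ι₀.hom) := by
      refine MvPolynomial.ringHom_ext (fun r => ?_) (fun i => ?_)
      · simp only [RingHom.comp_apply, MvPolynomial.map_C, MvPolynomial.eval₂Hom_C]
        rw [show ev.toRingHom (MvPolynomial.C r) = (pr X).appLE V W le_rfl r from ev.commutes r]
        exact ConcreteCategory.congr_hom hψ r
      · simp only [RingHom.comp_apply, MvPolynomial.map_X, MvPolynomial.eval₂Hom_X']
        rw [show ev.toRingHom (MvPolynomial.X i) = t from MvPolynomial.aeval_X _ i]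
        obtain ⟨i⟩ := i
        rw [Subsingleton.elim i 0]
        exact ht
    have hθ : Function.Bijective θ := ConcreteCategory.bijective_of_isIso θ
    have hι : Function.Bijective ι₀ := ConcreteCategory.bijective_of_isIso ι₀
    have : Function.Bijective (θ.hom ∘ ev.toRingHom) := by
      rw [← RingHom.coe_comp, hcomp, RingHom.coe_comp]
      exact hbij.comp (show Function.Bijective (MvPolynomial.map ι₀.hom) from
        ⟨MvPolynomial.map_injective _ hι.1, MvPolynomial.map_surjective _ hι.2⟩)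
    exact (Function.Bijective.of_comp_iff' hθ _).mp this
  let E : Polynomial Γ(X, V) ≃ₐ[Γ(X, V)] Γ(𝔸(ULift.{u} (Fin 1); X), W) :=
    (MvPolynomial.uniqueAlgEquiv Γ(X, V) (ULift.{u} (Fin 1))).symm.trans (AlgEquiv.ofBijective ev hev)
  refine ⟨(Polynomial.basisMonomials _).map E.toLinearEquiv, fun k => ?_⟩
  have hX : E Polynomial.X = t := by
    show ev ((MvPolynomial.uniqueAlgEquiv Γ(X, V) (ULift.{u} (Fin 1))).symm Polynomial.X) = t
    simp [ev]
  simp only [Module.Basis.map_apply, Polynomial.coe_basisMonomials]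
  show E (Polynomial.monomial k 1) = t ^ k
  rw [← Polynomial.X_pow_eq_monomial, map_pow, hX]

variable {X} (G : (𝔸(ULift.{u} (Fin 1); X)).Modules)

/-- `p_* G` -/
noncomputable abbrev push : X.Modules := (Scheme.Modules.pushforward (pr X)).obj G

/-- `p^* p_* G → G` -/
noncomputable abbrev cu : (Scheme.Modules.pullback (pr X)).obj (push G) ⟶ G :=
  (Scheme.Modules.pullbackPushforwardAdjunction (pr X)).counit.app G

lemma cu_mu (V : X.Opens) (n : Γ(G, (pr X) ⁻¹ᵁ V)) :
    (cu G).app ((pr X) ⁻¹ᵁ V) (CechRes.PullSec.mu (pr X) (push G) (le_refl ((pr X) ⁻¹ᵁ V)) n) = n := by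
  let η := (Scheme.Modules.pullbackPushforwardAdjunction (pr X)).unit.app (push G)
  have h : η ≫ (Scheme.Modules.pushforward (pr X)).map (cu G) = 𝟙 _ :=
    (Scheme.Modules.pullbackPushforwardAdjunction (pr X)).right_triangle_components G
  refine Eq.trans (congrArg ((cu G).app ((pr X) ⁻¹ᵁ V)) ?_)
    (congrArg (fun k : push G ⟶ push G => k.app V n) h)
  show ((Scheme.Modules.pullback (pr X)).obj (push G)).presheaf.map (homOfLE (le_refl ((pr X) ⁻¹ᵁ V))).op
    (η.app V n) = η.app V n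
  rw [show (homOfLE (le_refl ((pr X) ⁻¹ᵁ V))).op = 𝟙 _ from rfl, CategoryTheory.Functor.map_id]
  rfl

/-- A coherent module killed by the coordinate has coherent direct image. -/
lemma isCoh_push_of_kill (hG : Coh.IsCoh G) (h : scal G (co X) = 0) : Coh.IsCoh (push G) := by
  haveI := hG.1
  haveI : (push G).IsQuasicoherent := QCoh.Pushforward.isQCoh_pushforward (pr X) (M := G)
  refine CohBasics.Closure.isCoh_of_finite_sections fun V hV => ?_
  have hW : IsAffineOpen ((pr X) ⁻¹ᵁ V) := hV.preimage (pr X)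
  obtain ⟨T, hT⟩ := (CohBasics.Closure.finite_sections hG hW).fg_top
  letI := ((pr X).appLE V ((pr X) ⁻¹ᵁ V) le_rfl).hom.toAlgebra
  obtain ⟨b, hb⟩ := exists_basis X hV
  let t : Γ(𝔸(ULift.{u} (Fin 1); X), (pr X) ⁻¹ᵁ V) := (𝔸(ULift.{u} (Fin 1); X)).presheaf.map (homOfLE (le_top (a := (pr X) ⁻¹ᵁ V))).op (co X)
  have ht : ∀ m : Γ(G, (pr X) ⁻¹ᵁ V), t • m = 0 := fun m =>
    (scal_app G (co X) ((pr X) ⁻¹ᵁ V) m).symm.trans (congrArg (fun k : G ⟶ G => k.app ((pr X) ⁻¹ᵁ V) m) h)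
  have hsm : ∀ (r : Γ(X, V)) (m : Γ(push G, V)), r • m =
      ((pr X).appLE V ((pr X) ⁻¹ᵁ V) le_rfl r • (show Γ(G, (pr X) ⁻¹ᵁ V) from m) : Γ(G, (pr X) ⁻¹ᵁ V)) := fun r m => by
    rw [Scheme.Hom.appLE_eq_app]
    rfl
  refine ⟨⟨(show Finset Γ(push G, V) from T), eq_top_iff.mpr fun m _ => ?_⟩⟩
  suffices H : ∀ z : Γ(G, (pr X) ⁻¹ᵁ V),
      z ∈ Submodule.span Γ(𝔸(ULift.{u} (Fin 1); X), (pr X) ⁻¹ᵁ V) (T : Set Γ(G, (pr X) ⁻¹ᵁ V)) →
      @id Γ(push G, V) z ∈ Submodule.span Γ(X, V)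
        ((@id (Finset Γ(push G, V)) T : Finset Γ(push G, V)) : Set Γ(push G, V)) from
    H (@id Γ(G, (pr X) ⁻¹ᵁ V) m) (by rw [hT]; exact Submodule.mem_top)
  intro z hz
  refine Submodule.span_induction ?_ ?_ ?_ ?_ hz
  · exact fun z hz => Submodule.subset_span hz
  · exact Submodule.zero_mem _
  · exact fun x y _ _ hx hy => Submodule.add_mem _ hx hy
  · intro s z _ hz
    obtain ⟨r, s', rfl⟩ := exists_decomp t b hb s
    have : (algebraMap Γ(X, V) Γ(𝔸(ULift.{u} (Fin 1); X), (pr X) ⁻¹ᵁ V) r + t * s') • z =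
        (show Γ(G, (pr X) ⁻¹ᵁ V) from r • (show Γ(push G, V) from z)) := by
      rw [hsm, add_smul, mul_smul, ht, add_zero]
      rfl
    rw [this]
    exact Submodule.smul_mem _ r hz

/-- A coherent module on the line killed by the coordinate has zero class. -/
theorem clSub_eq_zero (hG : Coh.IsCoh G) (h : scal G (co X) = 0) :
    KZero.clSub (fun M : (𝔸(ULift.{u} (Fin 1); X)).Modules => Coh.IsCoh M) G = 0 := by
  haveI := hG.1
  have hP0 := isCoh_push_of_kill G hG h
  haveI := hP0.1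
  let P := (Scheme.Modules.pullback (pr X)).obj (push G)
  have hP : Coh.IsCoh P := Cyc.FP.Stalk.isCoh_pullback (pr X) hP0
  haveI := hP.1
  let S : ShortComplex (𝔸(ULift.{u} (Fin 1); X)).Modules := ShortComplex.mk (scal P (co X)) (cu G) (by
    rw [scal_comm, h, comp_zero])
  haveI : S.X₁.IsQuasicoherent := hP.1
  haveI : S.X₂.IsQuasicoherent := hP.1
  haveI : S.X₃.IsQuasicoherent := hG.1
  have hS : S.ShortExact := QCohChart.Basic.shortExact_of_charts S fun x => by
    obtain ⟨V, hV, hx, -⟩ := exists_isAffineOpen_mem_and_subset (X := X) (x := (pr X) x) (U := ⊤) trivial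
    have hW : IsAffineOpen ((pr X) ⁻¹ᵁ V) := hV.preimage (pr X)
    obtain ⟨b, hb⟩ := exists_basis X hV
    letI := ((pr X).appLE V ((pr X) ⁻¹ᵁ V) le_rfl).hom.toAlgebra
    letI : Module Γ(X, V) Γ(P, (pr X) ⁻¹ᵁ V) := Module.compHom _ ((pr X).appLE V ((pr X) ⁻¹ᵁ V) le_rfl).hom
    haveI : IsScalarTower Γ(X, V) Γ(𝔸(ULift.{u} (Fin 1); X), (pr X) ⁻¹ᵁ V) Γ(P, (pr X) ⁻¹ᵁ V) :=
      IsScalarTower.of_algebraMap_smul fun _ _ => rfl
    letI : Module Γ(𝔸(ULift.{u} (Fin 1); X), (pr X) ⁻¹ᵁ V) Γ(push G, V) :=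
      @id (Module Γ(𝔸(ULift.{u} (Fin 1); X), (pr X) ⁻¹ᵁ V) Γ(G, (pr X) ⁻¹ᵁ V)) inferInstance
    haveI : IsScalarTower Γ(X, V) Γ(𝔸(ULift.{u} (Fin 1); X), (pr X) ⁻¹ᵁ V) Γ(push G, V) :=
      IsScalarTower.of_algebraMap_smul fun r m => by
        show (pr X).appLE V ((pr X) ⁻¹ᵁ V) le_rfl r • (show Γ(G, (pr X) ⁻¹ᵁ V) from m) = _
        rw [Scheme.Hom.appLE_eq_app]
        rfl
    have hf := CechRes.PullSec.isBaseChange_mu (pr X) (push G) hV hW (le_refl ((pr X) ⁻¹ᵁ V))
    let ε : Γ(P, (pr X) ⁻¹ᵁ V) →ₗ[Γ(𝔸(ULift.{u} (Fin 1); X), (pr X) ⁻¹ᵁ V)] Γ(push G, V) :=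
      { toFun := fun y => (cu G).app ((pr X) ⁻¹ᵁ V) y
        map_add' := map_add ((cu G).app ((pr X) ⁻¹ᵁ V)).hom
        map_smul' := fun r y => Scheme.Modules.Hom.app_smul (cu G) r y }
    refine ⟨(pr X) ⁻¹ᵁ V, hW, hx, ?_, ?_, ?_⟩
    · exact injective_smul _ b hb hf
    · intro y hy
      exact exists_smul_eq_of_map_eq_zero (N := Γ(push G, V)) _ b hb
        (fun n => (scal_app G (co X) ((pr X) ⁻¹ᵁ V) n).symm.trans
          (congrArg (fun k : G ⟶ G => k.app ((pr X) ⁻¹ᵁ V) n) h)) hf ε (cu_mu G V) y hy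
    · exact fun n => ⟨_, cu_mu G V n⟩
  have := KRes.KSub.rel (P := fun M : (𝔸(ULift.{u} (Fin 1); X)).Modules => Coh.IsCoh M) hS hP hP hG
  exact left_eq_add.mp this

end Groth.Agent.Lib.Devissage.LineTorsion
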