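import Groth.Agent.Lib.Devissage.LocFreeK0
import Groth.Prelude.Def_KRR

/-!
# `K₀` of vector bundles and of resolvable coherent modules
-/

set_option autoImplicit false
set_option linter.style.haveILetI false
set_option linter.unusedSectionVars false

universe u

open CategoryTheory CategoryTheory.Limits AlgebraicGeometry TopologicalSpace

namespace Groth.Agent.Lib.Devissage.ResolvableK0

open Groth.Agent.Lib Groth.Agent.Lib.Modules.StalkModule Groth.Agent.Lib.Devissage.LocFreeK0
open Groth.Agent.Lib.Regular.PD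
open Groth.Agent.Lib.KRes.Dim

noncomputable section

variable {X : Scheme.{u}} [IsNoetherian X]

/-- Coherent of bounded projective dimension. -/
def BPD (M : X.Modules) : Prop := Coh.IsCoh M ∧ ∃ d, ∀ x, PD M x d

theorem coh_kernel {S : ShortComplex X.Modules} (hS : S.ShortExact) (h₂ : Coh.IsCoh S.X₂)
    (h₃ : Coh.IsCoh S.X₃) : Coh.IsCoh S.X₁ :=
  haveI := hS.mono_f
  CohBasics.Closure.isCoh_of_iso ((kernelIsKernel S.g).conePointUniqueUpToIso hS.fIsKernel)
    (CohBasics.Closure.isCoh_kernel S.g h₂ h₃.1)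

theorem bpd_of_locFree {M : X.Modules} (h : FlatMod.IsFinLocFree M) : BPD M :=
  ⟨isCoh_of_locFree h, 0, pd_zero_of_locFree h⟩

theorem pd_mono {M : X.Modules} {x : X} {m n : ℕ} (h : PD M x m) (hmn : m ≤ n) : PD M x n :=
  @hasProjectiveDimensionLT_of_ge _ _ _ _ (m + 1) (n + 1) (by omega) h

theorem pd_of_iso {M N : X.Modules} (e : M ≅ N) {x : X} {n : ℕ} (h : PD M x n) : PD N x n :=
  haveI := h
  hasProjectiveDimensionLT_of_iso ((stalkModFunctor X x).mapIso e) (n + 1)

theorem hyp (hres : KRR.HasEnoughLocFree X) :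
    KRes.Euler.Hyp (fun M : X.Modules => FlatMod.IsFinLocFree M) (fun M : X.Modules => BPD M) where
  iso₀ := ⟨fun e h => TensorMod.LocFree.of_iso e h⟩
  iso₁ := ⟨fun e h => ⟨CohBasics.Closure.isCoh_of_iso e h.1, h.2.choose, fun x => pd_of_iso e (h.2.choose_spec x)⟩⟩
  hle _ h := bpd_of_locFree h
  hext₀ S hS h₁ h₃ :=
    have h := isCoh_extension hS (isCoh_of_locFree h₁) (isCoh_of_locFree h₃)
    locFree_ext hS h.1 h.2 h₁ h₃
  hext₁ S hS h₁ h₃ := by
    obtain ⟨a, ha⟩ := h₁.2
    obtain ⟨b, hb⟩ := h₃.2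
    exact ⟨isCoh_extension hS h₁.1 h₃.1, max a b, fun x =>
      (hS.map_of_exact (stalkModFunctor X x)).hasProjectiveDimensionLT_X₂ (max a b + 1)
        (pd_mono (ha x) (le_max_left _ _)) (pd_mono (hb x) (le_max_right _ _))⟩
  h1₀ S hS h₂ h₃ := locFree_kernel hS (coh_kernel hS (isCoh_of_locFree h₂) (isCoh_of_locFree h₃)) h₂ h₃
  h1₁ S hS h₂ h₃ := by
    obtain ⟨a, ha⟩ := h₂.2
    obtain ⟨b, hb⟩ := h₃.2
    exact ⟨coh_kernel hS h₂.1 h₃.1, max a b, fun x =>
      (hS.map_of_exact (stalkModFunctor X x)).hasProjectiveDimensionLT_X₁ (max a b + 1)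
        (pd_mono (ha x) (le_max_left _ _))
        (pd_mono (hb x) (Nat.le_succ_of_le (le_max_right _ _)))⟩
  h2 A B D u v _ hA hB hD := by
    have hP : Coh.IsCoh (pullback u v) := CohBasics.Closure.isCoh_pullback u v hA.1 hD.1 hB.1.1
    obtain ⟨E, π, hE, hπ⟩ := hres _ hP
    exact ⟨E, π ≫ pullback.snd u v, π ≫ pullback.fst u v, hE, inferInstance,
      by simp [pullback.condition]⟩

variable {A : X.Modules} (R : Res (fun M : X.Modules => FlatMod.IsFinLocFree M) A)

theorem coh_K (hA : Coh.IsCoh A) : ∀ n, Coh.IsCoh (R.K n)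
  | 0 => R.hK.symm ▸ hA
  | n + 1 => coh_kernel (R.se n) (isCoh_of_locFree (R.hL n)) (coh_K hA n)

theorem pd_K {x : X} {n : ℕ} (h : PD A x n) : ∀ m, m ≤ n → PD (R.K m) x (n - m) := by
  intro m hm
  induction m with
  | zero => exact R.hK.symm ▸ (Nat.sub_zero n).symm ▸ h
  | succ m ih =>
    exact (((R.se m).map_of_exact (stalkModFunctor X x)).hasProjectiveDimensionLT_X₃_iff
        (n - (m + 1)) (projective_of_locFree (R.hL m) x)).1
      (by rw [show n - (m + 1) + 2 = n - m + 1 by omega]; exact ih (by omega))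

theorem pd_of_free {x : X} : ∀ (m : ℕ), PD (R.K m) x 0 → PD A x m := by
  suffices ∀ m j, PD (R.K (m + j)) x 0 → PD (R.K j) x m by
    exact fun m h => R.hK ▸ this m 0 h
  intro m
  induction m with
  | zero => exact fun j h => by simpa using h
  | succ m ih =>
    intro j h
    exact (((R.se j).map_of_exact (stalkModFunctor X x)).hasProjectiveDimensionLT_X₃_iff m
      (projective_of_locFree (R.hL j) x)).2 (ih (j + 1) (by rwa [show m + (j + 1) = m + 1 + j by omega]))

omit R in
theorem hdim (hres : KRR.HasEnoughLocFree X) (hA : BPD A) :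
    ∃ n, Dim (fun M : X.Modules => FlatMod.IsFinLocFree M) (fun M : X.Modules => BPD M) n A := by
  haveI := (hyp hres).iso₀
  obtain ⟨d, hd⟩ := hA.2
  refine ⟨d, dim_of_forall_res (fun M hM => (hyp hres).cover hM) (fun M hM c => (hyp hres).ker hM c) d hA
    fun R => locFree_of_pd_zero (coh_K R hA.1 d) fun x => ?_⟩
  simpa using pd_K R (hd x) d le_rfl

omit R in
/-- On a regular scheme coherent modules have bounded projective dimension. -/
theorem bpd_of_regular (hreg : ∀ x : X, IsRegularLocalRing (X.presheaf.stalk x))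
    (hres : KRR.HasEnoughLocFree X) (hA : Coh.IsCoh A) : BPD A := by
  obtain ⟨R⟩ := exists_res (P₀ := fun M : X.Modules => FlatMod.IsFinLocFree M) (P₁ := fun M : X.Modules => Coh.IsCoh M)
    (fun M hM => by
      obtain ⟨E, p, hE, hp⟩ := hres M hM
      exact ⟨Cover.ofEpi _ p hE⟩)
    (fun M hM c => coh_kernel c.se (isCoh_of_locFree c.hL) hM) hA
  let U : ℕ → Set X := fun m => {x | Module.Free (X.presheaf.stalk x) ((R.K m).presheaf.stalk x)}
  have hfree : ∀ m x, x ∈ U m → PD (R.K m) x 0 := fun m x hx =>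
    haveI : Module.Free (X.presheaf.stalk x) ((R.K m).presheaf.stalk x) := hx
    pdle_zero_iff.2 inferInstance
  have hfree' : ∀ m x, PD (R.K m) x 0 → x ∈ U m := fun m x hx => by
    haveI : Module.Projective (X.presheaf.stalk x) ((R.K m).presheaf.stalk x) := pdle_zero_iff.1 hx
    haveI := RefHull.LocFree.finite_stalk (coh_K R hA m) x
    exact Module.free_of_flat_of_isLocalRing
  have hcov : Set.univ ⊆ ⋃ m, U m := fun x _ => by
    haveI := hreg x
    haveI := RefHull.LocFree.finite_stalk hA x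
    have h := Regular.Serre.pdle_all (R := X.presheaf.stalk x) (A.presheaf.stalk x)
    exact Set.mem_iUnion.2 ⟨_, hfree' _ x (by simpa using pd_K R h _ le_rfl)⟩
  obtain ⟨t, ht⟩ := isCompact_univ.elim_finite_subcover U
    (fun m => RefHull.LocFree.isOpen_free (coh_K R hA m)) hcov
  refine ⟨hA, t.sup id, fun x => ?_⟩
  obtain ⟨m, hm, hx⟩ := Set.mem_iUnion₂.1 (ht (Set.mem_univ x))
  exact pd_mono (pd_of_free R m (hfree m x hx)) (Finset.le_sup (f := id) hm)

omit R in
/-- `K₀` of vector bundles is `K₀` of coherent modules of bounded projective dimension. -/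
theorem bijective_bpd (hres : KRR.HasEnoughLocFree X) :
    Function.Bijective (SGA6.mapSub (𝟭 X.Modules) (fun M : X.Modules => FlatMod.IsFinLocFree M)
      (fun M : X.Modules => BPD M) (hyp hres).hle) :=
  KRes.Euler.bijective (hyp hres) fun _ hA => hdim hres hA

omit R in
theorem bijective_of_iff (hres : KRR.HasEnoughLocFree X) {Q : ObjectProperty X.Modules}
    (hQ : ∀ M, Q M ↔ BPD M) (h : ∀ M : X.Modules, FlatMod.IsFinLocFree M → Q M) :
    Function.Bijective (SGA6.mapSub (𝟭 X.Modules) (fun M : X.Modules => FlatMod.IsFinLocFree M) Q h) := by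
  obtain rfl : Q = fun M : X.Modules => BPD M := funext fun M => propext (hQ M)
  exact bijective_bpd hres

end

end Groth.Agent.Lib.Devissage.ResolvableK0
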